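import Groth.Agent.UCValLib.Reduce

/-!
# Finite families of affine charts of finite type over an affine base
-/

set_option autoImplicit false
set_option backward.isDefEq.respectTransparency false
set_option backward.isDefEq.respectTransparency.types false

universe u

open CategoryTheory CategoryTheory.Limits AlgebraicGeometry Opposite AlgSp FibCat FibLib AlgSpLib AlgStLib Topology

noncomputable section

namespace UCValLib

variable {S : Scheme.{u}} {𝒳 𝒴 : AlgSt.Cat S}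

local notation "IsAE" => AlgSt.IsAlgStack Scheme.etalePrecoverage

/-- A finite family of affine charts of the base change to a scheme, of finite type over it. -/
structure ChartFamily (f : 𝒳 ⥤ᵇ 𝒴) {B : Over S} (u : overCat B ⥤ᵇ 𝒴) where
  ι : Type u
  fin : Finite ι
  U : ι → Over S
  affine : ∀ i, IsAffine (U i).left
  d : ∀ i, overCat (U i) ⥤ᵇ fp f u
  k : ∀ i, U i ⟶ B
  β : ∀ i, Nonempty (BasedFunctor.comp (d i) (FibCat.fpSnd f u) ≅ AlgSt.overMap (k i))
  smooth : ∀ i, AlgSt.RepByAlgSpWith (LocP @Smooth) (d i)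
  lft : ∀ i, LocallyOfFiniteType (k i).left
  surj : ∀ c, ∃ (i : ι) (t : (U i).left), AlgSt.Points.ofChart (d i) t = c

lemma isPullback_left {U B V : Over S} (k : U ⟶ V) (m : B ⟶ V) :
    IsPullback (pullback.fst k m).left (pullback.snd k m).left k.left m.left :=
  (IsPullback.of_hasPullback k m).map (Over.forget S)

lemma isAffine_pullback_left {U B V : Over S} (k : U ⟶ V) (m : B ⟶ V) [IsAffine U.left] [IsAffine B.left]
    [IsAffine V.left] : IsAffine (pullback k m).left :=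
  .of_isIso (isPullback_left k m).isoPullback.hom

/-- The base change of a family of charts. -/
def ChartFamily.bc [IsFibGrpd 𝒳.p] [IsFibGrpd 𝒴.p] {f : 𝒳 ⥤ᵇ 𝒴} {B V : Over S} [IsAffine B.left] [IsAffine V.left]
    {v : overCat V ⥤ᵇ 𝒴} (F : ChartFamily f v) (m : B ⟶ V) :
    ChartFamily f (BasedFunctor.comp (AlgSt.overMap m) v) where
  ι := F.ι
  fin := F.fin
  U i := pullback (F.k i) m
  affine i := haveI := F.affine i; isAffine_pullback_left _ _
  d i := bcChart f m (Iso.refl _) (F.β i).some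
  k i := pullback.snd (F.k i) m
  β i := ⟨bcChartSnd f m (Iso.refl _) (F.β i).some⟩
  smooth i := repByAlgSpWith_bcChart f m (Iso.refl _) (F.β i).some (F.smooth i)
  lft i := MorphismProperty.of_isPullback (isPullback_left (F.k i) m) (F.lft i)
  surj c := by
    obtain ⟨i, a, e⟩ := F.surj (AlgSt.Points.map (bcMap f m (Iso.refl _)) c)
    obtain ⟨b, hb, -⟩ := exists_bcChart_point f m (Iso.refl _) (F.β i).some a c e.symm
    exact ⟨i, b, hb⟩

lemma smooth_left_of_rep {U V : Over S} (j : U ⟶ V)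
    (hj : AlgSt.RepByAlgSpWith (LocP @Smooth) (AlgSt.overMap j)) : Smooth j.left :=
  locP_yon_map (prop_of_ofPshMap good_smooth.bc good_smooth.test (IsAlgSpace.yon_obj U) (IsAlgSpace.yon_obj V)
    ((repByAlgSpWith_square_iff (f := AlgSt.overMap j) (f' := AlgSt.ofSpMap ((yon S).map j))
      (a := AlgSt.toOverCat U) (b := AlgSt.toOverCat V) (isEquivOver_toOverCat U) (isEquivOver_toOverCat V)
      (Iso.refl _) _).mp hj))

lemma repByAlgSpWith_equiv_comp {P : MorphismProperty (Sp S)} {𝒜 ℬ 𝒞 : AlgSt.Cat S} {E : 𝒜 ⥤ᵇ ℬ}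
    (hE : IsEquivOver E) {g : ℬ ⥤ᵇ 𝒞} (h : AlgSt.RepByAlgSpWith P g) :
    AlgSt.RepByAlgSpWith P (BasedFunctor.comp E g) :=
  (repByAlgSpWith_square_iff (f := g) (f' := BasedFunctor.comp E g) (a := E) (b := BasedFunctor.id _) hE
    (isEquivOver_id _) (Iso.refl _) P).mp h

lemma repByAlgSpWith_comp_equiv {P : MorphismProperty (Sp S)} {𝒜 ℬ 𝒞 : AlgSt.Cat S} [IsFibGrpd ℬ.p]
    [IsFibGrpd 𝒞.p] {E : ℬ ⥤ᵇ 𝒞}
    (hE : IsEquivOver E) {g : 𝒜 ⥤ᵇ ℬ} (h : AlgSt.RepByAlgSpWith P g) :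
    AlgSt.RepByAlgSpWith P (BasedFunctor.comp g E) := by
  obtain ⟨N, hN, ⟨μ⟩, -⟩ := exists_inverse hE
  exact (repByAlgSpWith_square_iff (f := g) (f' := BasedFunctor.comp g E) (a := BasedFunctor.id _) (b := N)
    (isEquivOver_id _) hN (whiskerLeftIso' g μ) P).mp h

/-- A chart of the base change to a smooth chart of the target, of finite type over it. -/
theorem exists_chart (h𝒳 : IsAE 𝒳) (h𝒴 : IsAE 𝒴) {f : 𝒳 ⥤ᵇ 𝒴}
    (hft : AlgSt.LocQ (LocP @LocallyOfFiniteType) f) {V : Over S} (v : overCat V ⥤ᵇ 𝒴) :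
    ∃ (W : Over S) (d : overCat W ⥤ᵇ fp f v) (k : W ⟶ V),
      Nonempty (BasedFunctor.comp d (FibCat.fpSnd f v) ≅ AlgSt.overMap k) ∧
      AlgSt.RepByAlgSpWith (LocP @Smooth) d ∧ AlgSt.RepByAlgSpWith IsSurjectiveMor d ∧
      LocallyOfFiniteType k.left := by
  haveI := isFibGrpd_of_isAlgStack h𝒳
  haveI := isFibGrpd_of_isAlgStack h𝒴
  haveI := full_id 𝒴
  haveI := faithful_id 𝒴
  obtain ⟨U₀, V₀, x₀, y₀, h, α, hx, hxs, hy, hP⟩ := hft
  haveI : LocallyOfFiniteType h.left := locP_yon_map hP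
  haveI := AlgStLib.isFibGrpd_overCat U₀
  haveI := AlgStLib.isFibGrpd_overCat V₀
  haveI := AlgStLib.isFibGrpd_overCat V
  haveI := full_id (overCat V₀ : AlgSt.Cat S)
  haveI := faithful_id (overCat V₀ : AlgSt.Cat S)
  haveI : IsFibGrpd (fp y₀ v).p := isFibGrpd_fp
  obtain ⟨P₀, c, hc, hcs⟩ := (isAE_fp (isAE_overCat V₀) (isAE_overCat V) h𝒴 y₀ v).atlas
  haveI := AlgStLib.isFibGrpd_overCat P₀
  obtain ⟨l, ⟨ζ⟩⟩ := exists_iso_overMap (BasedFunctor.comp c (FibCat.fpFst y₀ v))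
  obtain ⟨p, ⟨η⟩⟩ := exists_iso_overMap (BasedFunctor.comp c (FibCat.fpSnd y₀ v))
  haveI : Smooth p.left :=
    smooth_left_of_rep p (repByAlgSpWith_congr η (repByAlgSpWith_comp' good_smooth hc (repByAlgSpWith_fpSnd v hy)))
  haveI : IsFibGrpd (fp (AlgSt.overMap h) (BasedFunctor.comp c (FibCat.fpFst y₀ v))).p := isFibGrpd_fp
  haveI : IsFibGrpd (fp (AlgSt.overMap h) (FibCat.fpFst y₀ v)).p := isFibGrpd_fp
  haveI : IsFibGrpd (fp (BasedFunctor.comp x₀ f) v).p := isFibGrpd_fp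
  haveI : IsFibGrpd (fp f v).p := isFibGrpd_fp
  haveI := AlgStLib.isFibGrpd_overCat (pullback h l)
  let M₁ : fp (AlgSt.overMap h) (AlgSt.overMap l) ⥤ᵇ fp (AlgSt.overMap h) (BasedFunctor.comp c (FibCat.fpFst y₀ v)) :=
    fpMap (a := BasedFunctor.id _) (b := BasedFunctor.id _) (c := BasedFunctor.id _)
      (F' := AlgSt.overMap h) (G' := AlgSt.overMap l) (Iso.refl _) ζ
  let K := BasedFunctor.comp (FibLib.sliceCmp h l) M₁
  have hK : IsEquivOver K := isEquivOver_comp (isEquivOver_sliceCmp h l)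
    (isEquivOver_fpMap _ _ (isEquivOver_id _) (isEquivOver_id _))
  let R := pairRight c (AlgSt.overMap h) (FibCat.fpFst y₀ v)
  let M₃ : fp (BasedFunctor.comp (AlgSt.overMap h) y₀) v ⥤ᵇ fp (BasedFunctor.comp x₀ f) v :=
    fpMap (a := BasedFunctor.id _) (b := BasedFunctor.id _) (c := BasedFunctor.id _)
      (F := BasedFunctor.comp x₀ f) (G := v) (F' := BasedFunctor.comp (AlgSt.overMap h) y₀) (G' := v)
      α (Iso.refl _)
  let E := BasedFunctor.comp (fpPaste (AlgSt.overMap h) y₀ v) M₃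
  have hE : IsEquivOver E := isEquivOver_comp (isEquivOver_fpPaste _ _ _)
    (isEquivOver_fpMap _ _ (isEquivOver_id _) (isEquivOver_id _))
  let d := BasedFunctor.comp (BasedFunctor.comp (BasedFunctor.comp K R) E) (pairLeft x₀ f v)
  have hd : ∀ {P : MorphismProperty (Sp S)}, Good P → AlgSt.RepByAlgSpWith P c → AlgSt.RepByAlgSpWith P x₀ →
      AlgSt.RepByAlgSpWith P d := fun hP h₁ h₂ =>
    repByAlgSpWith_comp' hP (repByAlgSpWith_comp_equiv hE (repByAlgSpWith_equiv_comp hK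
      (repByAlgSpWith_pairRight c (AlgSt.overMap h) (FibCat.fpFst y₀ v) h₁))) (repByAlgSpWith_pairLeft x₀ f v h₂)
  refine ⟨pullback h l, d, pullback.snd h l ≫ p, ⟨?_⟩, hd good_smooth hc hx, hd good_surjective hcs hxs, ?_⟩
  · exact whiskerLeftIso' (AlgSt.overMap (pullback.snd h l)) η ≪≫ eqToIso (overMap_comp _ _).symm
  · haveI : LocallyOfFiniteType (pullback.snd h l).left :=
      MorphismProperty.of_isPullback (isPullback_left h l) ‹LocallyOfFiniteType h.left›
    rw [Over.comp_left]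
    infer_instance

theorem exists_chartFamily (h𝒳 : IsAE 𝒳) (h𝒴 : IsAE 𝒴) {f : 𝒳 ⥤ᵇ 𝒴}
    (hqc : AlgSt.IsQuasiCompactMor Scheme.etalePrecoverage f)
    (hft : AlgSt.LocQ (LocP @LocallyOfFiniteType) f) {V : Over S} [IsAffine V.left] (v : overCat V ⥤ᵇ 𝒴) :
    Nonempty (ChartFamily f v) := by
  classical
  haveI := isFibGrpd_of_isAlgStack h𝒳
  haveI := isFibGrpd_of_isAlgStack h𝒴
  haveI := AlgStLib.isFibGrpd_overCat V
  haveI : IsFibGrpd (fp v f).p := isFibGrpd_fp
  haveI : IsFibGrpd (fp f v).p := isFibGrpd_fp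
  have hA := (isAE_fp h𝒳 (isAE_overCat V) h𝒴 f v).atlas
  have hV : AlgSt.IsQuasiCompact (overCat V : AlgSt.Cat S) :=
    ⟨V, AlgSt.overMap (𝟙 V), inferInstance,
      repByAlgSpWith_overMap good_smooth.bc _ ((locP_yon_map_iff _).2 (inferInstanceAs (Smooth (𝟙 V.left)))),
      repByAlgSpWith_overMap good_surjective.bc _
        (haveI : Surjective (𝟙 V : V ⟶ V).left := inferInstanceAs (Surjective (𝟙 V.left))
        isSurjectiveMor_yon_map' _)⟩
  haveI := compactSpace_of_isQuasiCompact (isAE_fp (isAE_overCat V) h𝒳 h𝒴 v f).atlas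
    (hqc _ (isAE_overCat V) hV v)
  have hcpt : IsCompact (Set.univ : Set (AlgSt.Points (fp f v))) := by
    rw [← (map_bijective_of_isEquivOver (isEquivOver_fpSwap v f)).2.range_eq]
    exact isCompact_range (continuous_map hA _)
  obtain ⟨W, d, k, ⟨β⟩, hd, hds, hk⟩ := exists_chart h𝒳 h𝒴 hft v
  haveI := AlgStLib.isFibGrpd_overCat W
  choose O hO htO using fun t : W.left => exists_isAffineOpen_mem_and_subset (U := ⊤) (x := t) trivial
  obtain ⟨s, hs⟩ := hcpt.elim_finite_subcover (fun t => AlgSt.Points.ofChart d '' (O t : Set W.left))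
    (fun t => isOpenMap_ofChart_smooth d hd _ (O t).2) fun z _ => by
      obtain ⟨t, rfl⟩ := surjective_ofChart hds z
      exact Set.mem_iUnion.2 ⟨t, t, (htO t).1, rfl⟩
  let o : ∀ t : s, Over.mk ((O t.1).ι ≫ W.hom) ⟶ W := fun t => Over.homMk (O t.1).ι rfl
  refine ⟨{
    ι := s, fin := inferInstance, U := fun t => Over.mk ((O t.1).ι ≫ W.hom), affine := fun t => hO t.1
    d := fun t => BasedFunctor.comp (AlgSt.overMap (o t)) d
    k := fun t => o t ≫ k
    β := fun t => ⟨whiskerLeftIso' (AlgSt.overMap (o t)) β ≪≫ eqToIso (overMap_comp _ _).symm⟩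
    smooth := fun t =>
      haveI := AlgStLib.isFibGrpd_overCat (Over.mk ((O t.1).ι ≫ W.hom))
      repByAlgSpWith_comp' good_smooth (repByAlgSpWith_overMap good_smooth.bc (o t)
        ((locP_yon_map_iff _).2 (inferInstanceAs (Smooth (O t.1).ι)))) hd
    lft := fun t => inferInstanceAs (LocallyOfFiniteType ((O t.1).ι ≫ k.left))
    surj := fun z => ?_ }⟩
  obtain ⟨t, ht, x, hx, e⟩ := Set.mem_iUnion₂.1 (hs (Set.mem_univ z))
  exact ⟨⟨t, ht⟩, ⟨x, hx⟩, (congrFun (ofChart_overMap _ d) _).trans e⟩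

end UCValLib
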