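import Groth.Agent.UCValLib.Dvr

/-!
# Realizing specializations of points of stacks by discrete valuation rings
-/

set_option autoImplicit false
set_option backward.isDefEq.respectTransparency false
set_option backward.isDefEq.respectTransparency.types false

universe u

open CategoryTheory CategoryTheory.Limits AlgebraicGeometry Opposite AlgSp FibCat FibLib AlgSpLib AlgStLib Topology

noncomputable section

namespace UCValLib

variable {S : Scheme.{u}} {𝒳 𝒴 : AlgSt.Cat S}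

local notation "IsAE" => AlgSt.IsAlgStack Scheme.etalePrecoverage

/-- The fibre product of two affine schemes over a quasi-separated stack is dominated by an affine scheme. -/
theorem exists_affine_onto_fp [QuasiSeparatedSpace S] (h𝒴 : IsAE 𝒴) (hs : AlgSt.IsQuasiSeparatedOver 𝒴)
    {A B : Over S} [IsAffine A.left] [IsAffine B.left] (a : overCat A ⥤ᵇ 𝒴) (b : overCat B ⥤ᵇ 𝒴) :
    ∃ (W : Over S) (c : overCat W ⥤ᵇ fp a b), IsAffine W.left ∧ Function.Surjective (AlgSt.Points.ofChart c) := by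
  haveI := isFibGrpd_of_isAlgStack h𝒴
  haveI := AlgStLib.isFibGrpd_overCat A
  haveI := AlgStLib.isFibGrpd_overCat B
  haveI := isFibGrpd_of_isAlgStack (AlgStLib.isAlgStack_selfOver (S := S))
  haveI := full_id (selfOver (Over S) : AlgSt.Cat S)
  haveI := faithful_id (selfOver (Over S) : AlgSt.Cat S)
  haveI : IsFibGrpd (fp a b).p := isFibGrpd_fp
  haveI : IsFibGrpd (fp (BasedFunctor.comp a (toSelf 𝒴)) (BasedFunctor.comp b (toSelf 𝒴))).p := isFibGrpd_fp
  let M : fp (toSelf (overCat A)) (toSelf (overCat B)) ⥤ᵇ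
      fp (BasedFunctor.comp a (toSelf 𝒴)) (BasedFunctor.comp b (toSelf 𝒴)) :=
    fpMap (a := BasedFunctor.id _) (b := BasedFunctor.id _) (c := BasedFunctor.id _)
      (F := BasedFunctor.comp a (toSelf 𝒴)) (G := BasedFunctor.comp b (toSelf 𝒴))
      (F' := toSelf (overCat A : AlgSt.Cat S)) (G' := toSelf (overCat B : AlgSt.Cat S))
      (nonempty_iso_selfOver _ _).some (nonempty_iso_selfOver _ _).some
  let E := BasedFunctor.comp (BasedFunctor.comp (AlgSt.toOverCat (A ⨯ B)) (prodCmp A B)) M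
  have hE : IsEquivOver E := isEquivOver_comp
    (isEquivOver_comp (isEquivOver_toOverCat _) (isEquivOver_prodCmp A B))
    (isEquivOver_fpMap _ _ (isEquivOver_id _) (isEquivOver_id _))
  obtain ⟨H, π, hH, ⟨e, he, ⟨β⟩⟩, hπ⟩ := exists_along_test (good_qc.inf good_qs).bc (good_qc.inf good_qs).test
    (repByAlgSpWith_fpPush a b (toSelf 𝒴) hs) (IsAlgSpace.yon_obj (A ⨯ B)) E
  haveI : QuasiCompact B.hom := quasiCompact_of_compactSpace B.hom
  haveI : CompactSpace ↥(pullback A.hom B.hom : Scheme.{u}) :=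
    QuasiCompact.compactSpace_of_compactSpace (pullback.fst A.hom B.hom)
  haveI : CompactSpace ↥(A ⨯ B).left :=
    ((Over.prodLeftIsoPullback A B).hom.homeomorph).symm.compactSpace
  have hqc : IsQuasiCompactSp H := hπ.1 (IsAlgSpace.yon_obj _) (isQuasiCompactSp_yon _) (𝟙 _) (𝟙 H) π
    (IsPullback.of_horiz_isIso ⟨by simp⟩)
  obtain ⟨W, w, hW, hw, hws⟩ := exists_affine_chart hqc
  haveI : IsFibGrpd (AlgSt.ofSch (A ⨯ B)).p := Stk.isFibGrpd_ofPsh _
  haveI : IsFibGrpd (AlgSt.ofSp H).p := Stk.isFibGrpd_ofPsh _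
  let c₀ := BasedFunctor.comp (BasedFunctor.comp (AlgSt.ofOverCat W) (AlgSt.ofSpMap w))
    (BasedFunctor.comp e (FibCat.fpSnd E (fpPush a b (toSelf 𝒴))))
  refine ⟨W, c₀, hW, fun z => ?_⟩
  obtain ⟨p, hp⟩ := (map_bijective_of_isEquivOver hE).2 (AlgSt.Points.map (fpPush a b (toSelf 𝒴)) z)
  obtain ⟨y, -, hy⟩ := exists_point_fp (g := E) (f := fpPush a b (toSelf 𝒴)) p z hp
  obtain ⟨h', rfl⟩ := (map_bijective_of_isEquivOver he).2 y
  obtain ⟨t, ht⟩ := surjective_ofPt hws (ptsEquiv H h')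
  refine ⟨t, ?_⟩
  rw [ofChart_eq_map, map_comp, map_comp (AlgSt.ofOverCat W)]
  rw [← hy, ← map_comp e]
  refine congrArg _ ?_
  apply (ptsEquiv H).injective
  rw [← ht, ptsEquiv_map]
  obtain ⟨q, hq⟩ : ∃ q, q = ptsEquiv ((yon S).obj W) (AlgSt.Points.map (AlgSt.ofOverCat W) (pt W t)) := ⟨_, rfl⟩
  have hq' : q = Points.schemeHomeo W t := by
    rw [hq]
    have e1 : pt W t = AlgSt.Points.map (AlgSt.toOverCat W) ((ptsEquiv _).symm (Points.schemeHomeo W t)) := rfl
    rw [e1, ← map_comp]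
    conv_rhs => rw [← (ptsEquiv _).apply_symm_apply (Points.schemeHomeo W t)]
    refine congrArg _ ?_
    conv_rhs => rw [← map_id ((ptsEquiv ((yon S).obj W)).symm (Points.schemeHomeo W t))]
    rfl
  rw [← hq, hq']
  rfl

theorem exists_dvr_realizing_specialization [QuasiSeparatedSpace S] (h𝒳 : IsAE 𝒳) (h𝒴 : IsAE 𝒴)
    (hn : AlgSt.SmoothLocally (fun T => IsLocallyNoetherian T) 𝒴) (hs : AlgSt.IsQuasiSeparatedOver 𝒴)
    (f : 𝒳 ⥤ᵇ 𝒴) (hft : AlgSt.LocQ (LocP @LocallyOfFiniteType) f)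
    (hqc : AlgSt.IsQuasiCompactMor Scheme.etalePrecoverage f)
    (x : AlgSt.Points 𝒳) (y₀ : AlgSt.Points 𝒴) (hsp : AlgSt.Points.map f x ⤳ y₀) :
    ∃ (R : Type u) (_ : CommRing R) (_ : IsDomain R) (_ : IsDiscreteValuationRing R)
      (sR : Spec (CommRingCat.of R) ⟶ S)
      (a : FibCat.overCat (Over.mk (Spec.map (CommRingCat.ofHom (algebraMap R (FractionRing R))) ≫ sR)) ⥤ᵇ 𝒳)
      (b : FibCat.overCat (Over.mk sR) ⥤ᵇ 𝒴),
      Nonempty (BasedFunctor.comp a f ≅
        BasedFunctor.comp (AlgSt.overMap (Over.homMk (Spec.map (CommRingCat.ofHom (algebraMap R (FractionRing R)))) rfl :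
          Over.mk (Spec.map (CommRingCat.ofHom (algebraMap R (FractionRing R))) ≫ sR) ⟶ Over.mk sR)) b) ∧
      (∀ p, AlgSt.Points.ofChart a p = x) ∧
      AlgSt.Points.ofChart b (IsLocalRing.closedPoint R) = y₀ := by
  haveI := isFibGrpd_of_isAlgStack h𝒳
  haveI := isFibGrpd_of_isAlgStack h𝒴
  obtain ⟨V₀, y, hy, hys⟩ := h𝒴.atlas
  haveI := AlgStLib.isFibGrpd_overCat V₀
  obtain ⟨s₀, hs₀⟩ := surjective_ofChart hys y₀
  obtain ⟨O, hO, hsO, -⟩ := exists_isAffineOpen_mem_and_subset (U := ⊤) (x := s₀) trivial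
  let V : Over S := Over.mk (O.ι ≫ V₀.hom)
  let o : V ⟶ V₀ := Over.homMk O.ι rfl
  haveI : IsAffine V.left := hO
  haveI := AlgStLib.isFibGrpd_overCat V
  let v := BasedFunctor.comp (AlgSt.overMap o) y
  have hv : AlgSt.RepByAlgSpWith (LocP @Smooth) v :=
    repByAlgSpWith_comp' good_smooth (repByAlgSpWith_overMap good_smooth.bc o
      ((locP_yon_map_iff o).2 (inferInstanceAs (Smooth O.ι)))) hy
  let s : V.left := ⟨s₀, hsO⟩
  have hs' : AlgSt.Points.ofChart v s = y₀ := (congrFun (ofChart_overMap o y) s).trans hs₀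
  haveI := hn V v hv
  haveI : IsNoetherianRing Γ(V.left, ⊤) := IsLocallyNoetherian.component_noetherian ⟨⊤, isAffineOpen_top _⟩
  -- a field-valued point
  obtain ⟨P, hP⟩ := AlgSt.Points.mk_surjective x
  let A : Over S := Over.mk P.str
  haveI : IsAffine A.left := inferInstanceAs (IsAffine (Spec _))
  haveI := AlgStLib.isFibGrpd_overCat A
  let ξ : 𝒳.p.Fiber A := Functor.Fiber.mk (p := 𝒳.p) P.lies
  obtain ⟨κ⟩ := nonempty_evalAtId_ofPoint_iso ξ
  let a₀ : overCat A ⥤ᵇ 𝒳 := ofPoint ξ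
  have ha₀ : ∀ p : A.left, AlgSt.Points.ofChart a₀ p = x := fun p => by
    have e1 : AlgSt.Points.map a₀
        (AlgSt.Points.mk { K := P.K, str := P.str, obj := Over.mk (𝟙 A), lies := rfl }) = x :=
      (mk_eq_of_hom (q := P) κ.hom.1).trans hP
    obtain ⟨p', hp'⟩ := (pt_bijective A).2
      (AlgSt.Points.mk { K := P.K, str := P.str, obj := Over.mk (𝟙 A), lies := rfl })
    rw [show p = p' from Subsingleton.elim (α := PrimeSpectrum P.K) _ _, ofChart_eq_map, hp', e1]
  let a₁ := BasedFunctor.comp a₀ f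
  obtain ⟨W, c, hW, hc⟩ := exists_affine_onto_fp h𝒴 hs a₁ v
  haveI := hW
  haveI := AlgStLib.isFibGrpd_overCat W
  obtain ⟨p, ⟨ε⟩⟩ := exists_iso_overMap (BasedFunctor.comp c (FibCat.fpSnd a₁ v))
  have hrange : AlgSt.Points.ofChart v ⁻¹' {AlgSt.Points.map f x} ⊆ p.left '' Set.univ := by
    intro t ht
    obtain ⟨t₀, -⟩ : ∃ t₀ : A.left, True := ⟨IsLocalRing.closedPoint P.K, trivial⟩
    obtain ⟨z, -, hz⟩ := exists_point_fp (g := a₁) (f := v) (pt A t₀) (pt V t) (by
      rw [← ofChart_eq_map, ← ofChart_eq_map]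
      refine Eq.trans ?_ (Eq.symm ht)
      exact (congrFun (ofChart_comp a₀ f) t₀).trans (congrArg _ (ha₀ t₀)))
    obtain ⟨w, rfl⟩ := hc z
    refine ⟨w, trivial, (pt_bijective V).1 ?_⟩
    rw [← ofChart_overMap_pt]
    exact (congrFun (ofChart_congr ε.symm) w).trans ((congrFun (ofChart_comp c (FibCat.fpSnd a₁ v)) w).trans hz)
  have hscl : s ∈ closure (p.left '' Set.univ) :=
    closure_mono hrange ((isOpenMap_ofChart_smooth v hv).preimage_closure_subset_closure_preimage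
      (show AlgSt.Points.ofChart v s ∈ closure {AlgSt.Points.map f x} from
        hs'.symm ▸ specializes_iff_mem_closure.1 hsp))
  obtain ⟨w, -, hw⟩ := exists_specializes_of_mem_closure p.left isClosed_univ hscl
  have hfw : AlgSt.Points.map v (pt V (p.left w)) = AlgSt.Points.map f x := by
    rw [show pt V (p.left w) = AlgSt.Points.map (FibCat.fpSnd a₁ v) (AlgSt.Points.ofChart c w) from
      (ofChart_overMap_pt p w).symm.trans
        ((congrFun (ofChart_congr ε.symm) w).trans (congrFun (ofChart_comp c (FibCat.fpSnd a₁ v)) w))]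
    rw [← map_fpFst_fpSnd]
    obtain ⟨t₁, ht₁⟩ := (pt_bijective A).2 (AlgSt.Points.map (FibCat.fpFst a₁ v) (AlgSt.Points.ofChart c w))
    rw [← ht₁, ← ofChart_eq_map]
    exact (congrFun (ofChart_comp a₀ f) t₁).trans (congrArg _ (ha₀ t₁))
  obtain ⟨z, hz₁, hz₂⟩ := exists_point_fp (g := f) (f := v) x (pt V (p.left w)) hfw.symm
  obtain ⟨F⟩ := exists_chartFamily h𝒳 h𝒴 hqc hft v
  obtain ⟨i, w', hw'⟩ := F.surj z
  haveI := F.affine i
  haveI := F.lft i
  have hk : (F.k i).left w' = p.left w := by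
    rw [← proj_ofChart f v _ (F.β i).some, hw']
    exact (pt_bijective V).1 ((pt_proj f v z).trans hz₂)
  obtain ⟨R, _, _, _, uK, btD, huK, huw, hbt⟩ := exists_dvr_realizing (F.k i).left w' s (hk ▸ hw)
  let sR : Spec (CommRingCat.of R) ⟶ S := btD ≫ V.hom
  let oU : Over.mk (Spec.map (CommRingCat.ofHom (algebraMap R (FractionRing R))) ≫ sR) ⟶ F.U i :=
    Over.homMk uK (by
      change uK ≫ (F.U i).hom = Spec.map _ ≫ btD ≫ V.hom
      rw [← Over.w (F.k i), reassoc_of% huK])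
  let ηK : Over.mk (Spec.map (CommRingCat.ofHom (algebraMap R (FractionRing R))) ≫ sR) ⟶ Over.mk sR :=
    Over.homMk (Spec.map (CommRingCat.ofHom (algebraMap R (FractionRing R)))) rfl
  let bt : Over.mk sR ⟶ V := Over.homMk btD rfl
  have hsq : oU ≫ F.k i = ηK ≫ bt := Over.OverMorphism.ext huK
  let dL := BasedFunctor.comp (AlgSt.overMap oU) (F.d i)
  let βL : BasedFunctor.comp dL (FibCat.fpSnd f v) ≅
      BasedFunctor.comp (AlgSt.overMap ηK) (AlgSt.overMap bt) :=
    whiskerLeftIso' (AlgSt.overMap oU) (F.β i).some ≪≫ eqToIso (by rw [← overMap_comp, ← overMap_comp, hsq])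
  refine ⟨R, inferInstance, inferInstance, inferInstance, sR, BasedFunctor.comp dL (FibCat.fpFst f v),
    BasedFunctor.comp (AlgSt.overMap bt) v, ⟨fpSq dL βL⟩, fun q => ?_, ?_⟩
  · rw [congrFun (ofChart_comp dL (FibCat.fpFst f v)) q]
    simp only [Function.comp_apply]
    rw [show AlgSt.Points.ofChart dL q = AlgSt.Points.ofChart (F.d i) (oU.left q) from
      congrFun (ofChart_overMap oU (F.d i)) q, show oU.left q = w' from huw q, hw', hz₁]
  · rw [congrFun (ofChart_overMap bt v) _]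
    exact (congrArg (AlgSt.Points.ofChart v) hbt).trans hs'

end UCValLib
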