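import Groth.Agent.UCValLib.Charts
import Groth.Agent.AlgSpLib.ValDvrExt

/-!
# The image of a closed set over a Noetherian affine base
-/

set_option autoImplicit false
set_option backward.isDefEq.respectTransparency false
set_option backward.isDefEq.respectTransparency.types false

universe u

open CategoryTheory CategoryTheory.Limits AlgebraicGeometry Opposite AlgSp FibCat FibLib AlgSpLib AlgStLib Topology

noncomputable section

namespace UCValLib

variable {S : Scheme.{u}} {𝒳 𝒴 : AlgSt.Cat S}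

local notation "IsAE" => AlgSt.IsAlgStack Scheme.etalePrecoverage

/-- The valuative criterion with extensions, for discrete valuation rings. -/
def DvrLift (f : 𝒳 ⥤ᵇ 𝒴) : Prop :=
  ∀ (R : Type u) [CommRing R] [IsDomain R] [IsDiscreteValuationRing R]
        (sR : Spec (CommRingCat.of R) ⟶ S)
        (a : FibCat.overCat (Over.mk (Spec.map (CommRingCat.ofHom (algebraMap R (FractionRing R))) ≫ sR)) ⥤ᵇ 𝒳)
        (b : FibCat.overCat (Over.mk sR) ⥤ᵇ 𝒴)
        (α : BasedFunctor.comp a f ≅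
          BasedFunctor.comp (AlgSt.overMap (Over.homMk (Spec.map (CommRingCat.ofHom (algebraMap R (FractionRing R)))) rfl :
            Over.mk (Spec.map (CommRingCat.ofHom (algebraMap R (FractionRing R))) ≫ sR) ⟶ Over.mk sR)) b),
        ∃ (R' : Type u) (_ : CommRing R') (_ : IsDomain R') (_ : IsDiscreteValuationRing R') (φ : R →+* R')
          (_ : Function.Injective φ) (_ : IsLocalHom φ)
          (gψ : (Over.mk (Spec.map (CommRingCat.ofHom (algebraMap R' (FractionRing R'))) ≫
                  Spec.map (CommRingCat.ofHom φ) ≫ sR) : Over S) ⟶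
                Over.mk (Spec.map (CommRingCat.ofHom (algebraMap R (FractionRing R))) ≫ sR))
          (c : FibCat.overCat (Over.mk (Spec.map (CommRingCat.ofHom φ) ≫ sR)) ⥤ᵇ FibCat.fp f b),
          gψ ≫ (Over.homMk (Spec.map (CommRingCat.ofHom (algebraMap R (FractionRing R)))) rfl :
              Over.mk (Spec.map (CommRingCat.ofHom (algebraMap R (FractionRing R))) ≫ sR) ⟶ Over.mk sR) =
            (Over.homMk (Spec.map (CommRingCat.ofHom (algebraMap R' (FractionRing R')))) rfl :
                Over.mk (Spec.map (CommRingCat.ofHom (algebraMap R' (FractionRing R'))) ≫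
                  Spec.map (CommRingCat.ofHom φ) ≫ sR) ⟶ Over.mk (Spec.map (CommRingCat.ofHom φ) ≫ sR)) ≫
              (Over.homMk (Spec.map (CommRingCat.ofHom φ)) rfl :
                Over.mk (Spec.map (CommRingCat.ofHom φ) ≫ sR) ⟶ Over.mk sR) ∧
          Nonempty (BasedFunctor.comp c (FibCat.fpSnd f b) ≅
            AlgSt.overMap (Over.homMk (Spec.map (CommRingCat.ofHom φ)) rfl :
              Over.mk (Spec.map (CommRingCat.ofHom φ) ≫ sR) ⟶ Over.mk sR)) ∧
          Nonempty (BasedFunctor.comp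
              (AlgSt.overMap (Over.homMk (Spec.map (CommRingCat.ofHom (algebraMap R' (FractionRing R')))) rfl :
                Over.mk (Spec.map (CommRingCat.ofHom (algebraMap R' (FractionRing R'))) ≫
                  Spec.map (CommRingCat.ofHom φ) ≫ sR) ⟶ Over.mk (Spec.map (CommRingCat.ofHom φ) ≫ sR))) c ≅
            BasedFunctor.comp (AlgSt.overMap gψ)
              (FibCat.fpLift a
                (AlgSt.overMap (Over.homMk (Spec.map (CommRingCat.ofHom (algebraMap R (FractionRing R)))) rfl :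
                  Over.mk (Spec.map (CommRingCat.ofHom (algebraMap R (FractionRing R))) ≫ sR) ⟶ Over.mk sR)) α))

/-- The closure of the image of a closed set consists of specializations of the image. -/
theorem exists_specializes_of_mem_closure {W U : Scheme.{u}} [IsAffine W] [IsAffine U] (h : W ⟶ U)
    {Z : Set W} (hZ : IsClosed Z) {v : U} (hv : v ∈ closure (h '' Z)) : ∃ w ∈ Z, h w ⤳ v := by
  obtain ⟨φ, hφ⟩ := Spec.map_surjective (W.isoSpec.inv ≫ h ≫ U.isoSpec.hom)
  let eW := Scheme.homeoOfIso W.isoSpec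
  let eU := Scheme.homeoOfIso U.isoSpec
  have hc : ∀ w, PrimeSpectrum.comap φ.hom (eW w) = eU (h w) := fun w => by
    change (W.isoSpec.hom ≫ Spec.map φ) w = (h ≫ U.isoSpec.hom) w
    rw [hφ, W.isoSpec.hom_inv_id_assoc]
  obtain ⟨I, hI⟩ := (PrimeSpectrum.isClosed_iff_zeroLocus_ideal _).mp (eW.isClosed_image.2 hZ)
  have hsub : eU '' closure (h '' Z) ⊆ PrimeSpectrum.zeroLocus (I.comap φ.hom : Set _) := by
    rw [eU.image_closure]
    refine closure_minimal ?_ (PrimeSpectrum.isClosed_zeroLocus _)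
    rintro _ ⟨_, ⟨w, hw, rfl⟩, rfl⟩
    rw [← hc]
    exact Ideal.comap_mono (show eW w ∈ PrimeSpectrum.zeroLocus (I : Set _) from hI ▸ ⟨w, hw, rfl⟩)
  obtain ⟨q, hqI, hq, hqle⟩ := (eU v).asIdeal.exists_ideal_comap_le_prime I (hsub ⟨v, hv, rfl⟩)
  obtain ⟨w, hw, e⟩ := hI.superset (show (⟨q, hq⟩ : PrimeSpectrum _) ∈ PrimeSpectrum.zeroLocus (I : Set _) from hqI)
  refine ⟨w, hw, ?_⟩
  have h1 : eU (h w) ⤳ eU v := by
    rw [← hc, e]
    exact (PrimeSpectrum.le_iff_specializes (PrimeSpectrum.comap φ.hom ⟨q, hq⟩) (eU v)).1 hqle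
  exact eU.isInducing.specializes_iff.1 h1

theorem isClosedMap_proj_of_noetherian (h𝒳 : IsAE 𝒳) (h𝒴 : IsAE 𝒴) {f : 𝒳 ⥤ᵇ 𝒴} (hval : DvrLift f)
    {B : Over S} [IsAffine B.left] [IsNoetherianRing Γ(B.left, ⊤)] {u : overCat B ⥤ᵇ 𝒴}
    (F : ChartFamily f u) : IsClosedMap (proj f u) := by
  classical
  haveI := isFibGrpd_of_isAlgStack h𝒳
  haveI := isFibGrpd_of_isAlgStack h𝒴
  haveI := AlgStLib.isFibGrpd_overCat B
  haveI : IsFibGrpd (fp f u).p := isFibGrpd_fp
  have hA := (isAE_fp h𝒳 (isAE_overCat B) h𝒴 f u).atlas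
  intro C hC
  haveI := F.fin
  let Z : ∀ i, Set (F.U i).left := fun i => AlgSt.Points.ofChart (F.d i) ⁻¹' C
  have key : proj f u '' C = ⋃ i, (F.k i).left '' Z i := by
    ext t
    constructor
    · rintro ⟨c, hc, rfl⟩
      obtain ⟨i, w, e⟩ := F.surj c
      exact Set.mem_iUnion.2 ⟨i, w, show _ ∈ C from e ▸ hc, by
        rw [← e, proj_ofChart f u _ (F.β i).some]⟩
    · intro ht
      obtain ⟨i, w, hw, rfl⟩ := Set.mem_iUnion.1 ht
      exact ⟨_, hw, proj_ofChart f u _ (F.β i).some w⟩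
  rw [key, ← closure_subset_iff_isClosed, closure_iUnion_of_finite, Set.iUnion_subset_iff]
  intro i v hv
  haveI := F.affine i
  haveI := F.lft i
  obtain ⟨w, hw, hspec⟩ := exists_specializes_of_mem_closure (F.k i).left (hC.preimage (continuous_ofChart hA _)) hv
  rcases eq_or_ne ((F.k i).left w) v with rfl | hne
  · exact Set.mem_iUnion.2 ⟨i, w, hw, rfl⟩
  rw [← key]
  let W := F.U i
  let h := F.k i
  let eT := B.left.isoSpec
  let iw := W.left.fromSpecResidueField w
  let q : PrimeSpectrum Γ(B.left, ⊤) := eT.hom v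
  obtain ⟨β, hβ⟩ := Spec.map_surjective (R := Γ(W.left, ⊤)) (S := W.left.residueField w)
    (iw ≫ W.left.isoSpec.hom)
  obtain ⟨φ, hφ⟩ := Spec.map_surjective (W.left.isoSpec.inv ≫ h.left ≫ eT.hom)
  haveI : LocallyOfFiniteType (Spec.map φ) := hφ ▸ inferInstance
  have hφft : φ.hom.FiniteType := (HasRingHomProperty.Spec_iff (P := @LocallyOfFiniteType)).1 this
  let β₀ : Γ(B.left, ⊤) →+* W.left.residueField w := β.hom.comp φ.hom
  have hβ₀ : Spec.map (CommRingCat.ofHom β₀) = iw ≫ h.left ≫ eT.hom := by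
    rw [show CommRingCat.ofHom β₀ = φ ≫ β from rfl, Spec.map_comp, hφ, hβ, Category.assoc, Iso.hom_inv_id_assoc]
  let p : PrimeSpectrum Γ(B.left, ⊤) := Spec.map (CommRingCat.ofHom β₀) (IsLocalRing.closedPoint _)
  have hpw : p = eT.hom (h.left w) := by
    simp only [p, hβ₀, Scheme.Hom.comp_apply, iw]
    exact congrArg eT.hom (congrArg h.left (Scheme.fromSpecResidueField_apply _ _))
  have hker : RingHom.ker β₀ = p.asIdeal := by
    change _ = (IsLocalRing.maximalIdeal (W.left.residueField w)).comap β₀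
    rw [IsLocalRing.maximalIdeal_eq_bot, RingHom.ker_eq_comap_bot]
  have hpq : p.asIdeal ≤ q.asIdeal :=
    (PrimeSpectrum.le_iff_specializes p q).2 (by rw [hpw]; exact hspec.map eT.hom.continuous)
  obtain ⟨s, hs⟩ := mem_of_finiteType hφft β.hom
  let L : Subfield (W.left.residueField w) := Subfield.closure (Set.range β₀ ∪ (s : Set _))
  have hLR : ∀ r, β₀ r ∈ L := fun r => Subfield.subset_closure (Or.inl ⟨r, rfl⟩)
  have hLs : ∀ x ∈ s, x ∈ L := fun x hx => Subfield.subset_closure (Or.inr hx)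
  let α : Γ(B.left, ⊤) →+* L := β₀.codRestrict L hLR
  have hgens : Subfield.closure (Set.range α ∪ ↑(s.attach.image fun x => (⟨x.1, hLs _ x.2⟩ : L))) = ⊤ := by
    refine subfield_closure_eq_top L _ (Subfield.closure_mono ?_)
    rintro y (⟨r, rfl⟩ | hy)
    · exact ⟨α r, Or.inl ⟨r, rfl⟩, rfl⟩
    · refine ⟨⟨y, hLs _ hy⟩, Or.inr ?_, rfl⟩
      exact Finset.mem_coe.2 (Finset.mem_image.2 ⟨⟨y, hy⟩, Finset.mem_attach _ _, rfl⟩)
  have hkerα : RingHom.ker α ≤ q.asIdeal := fun a ha => hpq (by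
    rw [← hker, RingHom.mem_ker]
    exact congrArg Subtype.val (RingHom.mem_ker.1 ha))
  have hnP : ∃ a ∈ q.asIdeal, α a ≠ 0 := by
    by_contra hcon
    push Not at hcon
    refine hne (eT.hom.homeomorph.injective ?_)
    change eT.hom (h.left w) = eT.hom v
    rw [← hpw]
    exact PrimeSpectrum.ext (le_antisymm hpq fun a ha => by
      rw [← hker, RingHom.mem_ker]
      exact congrArg Subtype.val (hcon a ha))
  haveI : q.asIdeal.IsPrime := q.isPrime
  let t₀ : Finset L := s.attach.image fun x => (⟨x.1, hLs _ x.2⟩ : L)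
  obtain ⟨D, hD, hDmem, hDval⟩ := exists_dvr_of_hom' (A := Γ(B.left, ⊤)) (L := L) α q.asIdeal hkerα hnP t₀ hgens
  let ρ₀ : Γ(B.left, ⊤) →+* D := α.codRestrict D.toSubring hDmem
  let btD : Spec (CommRingCat.of D) ⟶ B.left := Spec.map (CommRingCat.ofHom ρ₀) ≫ eT.inv
  let γ : Γ(W.left, ⊤) →+* L := β.hom.codRestrict L (hs L hLR hLs)
  let uL : Spec (CommRingCat.of L) ⟶ W.left := Spec.map (CommRingCat.ofHom γ) ≫ W.left.isoSpec.inv
  have huL : Spec.map (CommRingCat.ofHom L.subtype) ≫ uL = iw := by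
    simp only [uL, ← Spec.map_comp_assoc]
    rw [show CommRingCat.ofHom γ ≫ CommRingCat.ofHom L.subtype = β from rfl, hβ, Category.assoc, Iso.hom_inv_id,
      Category.comp_id]
  have huLg : uL ≫ h.left = Spec.map (CommRingCat.ofHom (algebraMap D L)) ≫ btD := by
    refine hom_ext_of_injective (i := L.subtype) Subtype.val_injective ?_
    rw [reassoc_of% huL]
    simp only [btD, ← Spec.map_comp_assoc]
    rw [show (CommRingCat.ofHom ρ₀ ≫ CommRingCat.ofHom (algebraMap D L)) ≫ CommRingCat.ofHom L.subtype =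
        CommRingCat.ofHom β₀ from rfl, hβ₀]
    simp only [Category.assoc, Iso.hom_inv_id, Category.comp_id]
  -- pass to the standard fraction field
  let eL : L →+* FractionRing D := (FractionRing.algEquiv D L).symm.toRingEquiv.toRingHom
  have heL : eL.comp (algebraMap D L) = algebraMap D (FractionRing D) :=
    RingHom.ext fun x => (FractionRing.algEquiv D L).symm.commutes x
  let uK : Spec (CommRingCat.of (FractionRing D)) ⟶ W.left := Spec.map (CommRingCat.ofHom eL) ≫ uL
  have huK : uK ≫ h.left = Spec.map (CommRingCat.ofHom (algebraMap D (FractionRing D))) ≫ btD := by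
    rw [Category.assoc, huLg, ← Category.assoc, ← Spec.map_comp, ← CommRingCat.ofHom_comp, heL]
  have huKw : ∀ y, uK y = w := fun y => by
    have e1 : Spec.map (CommRingCat.ofHom eL) y =
        Spec.map (CommRingCat.ofHom L.subtype) (IsLocalRing.closedPoint (W.left.residueField w)) :=
      Subsingleton.elim (α := PrimeSpectrum L) _ _
    rw [Scheme.Hom.comp_apply, e1, ← Scheme.Hom.comp_apply, huL]
    exact W.left.fromSpecResidueField_apply w _
  let sR : Spec (CommRingCat.of D) ⟶ S := btD ≫ B.hom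
  let ηK : Over.mk (Spec.map (CommRingCat.ofHom (algebraMap D (FractionRing D))) ≫ sR) ⟶ Over.mk sR :=
    Over.homMk (Spec.map (CommRingCat.ofHom (algebraMap D (FractionRing D)))) rfl
  let oU : Over.mk (Spec.map (CommRingCat.ofHom (algebraMap D (FractionRing D))) ≫ sR) ⟶ W :=
    Over.homMk uK (by
      change uK ≫ W.hom = Spec.map _ ≫ btD ≫ B.hom
      rw [← Over.w h, reassoc_of% huK])
  let bt : Over.mk sR ⟶ B := Over.homMk btD rfl
  have hsq : oU ≫ h = ηK ≫ bt := Over.OverMorphism.ext huK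
  let dL := BasedFunctor.comp (AlgSt.overMap oU) (F.d i)
  let βL : BasedFunctor.comp dL (FibCat.fpSnd f u) ≅
      BasedFunctor.comp (AlgSt.overMap ηK) (AlgSt.overMap bt) :=
    whiskerLeftIso' (AlgSt.overMap oU) (F.β i).some ≪≫ eqToIso (by rw [← overMap_comp, ← overMap_comp, hsq])
  let aL := BasedFunctor.comp dL (FibCat.fpFst f u)
  let b₀ := BasedFunctor.comp (AlgSt.overMap bt) u
  let αL : BasedFunctor.comp aL f ≅ BasedFunctor.comp (AlgSt.overMap ηK) b₀ := fpSq dL βL
  obtain ⟨R', _, _, _, ψ, hψi, hψl, gψ, c, hg, ⟨ec⟩, ⟨eK⟩⟩ := hval D sR aL b₀ αL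
  let N := bcMap f bt (u := b₀) (Iso.refl _)
  let c' := BasedFunctor.comp c N
  let φR : Over.mk (Spec.map (CommRingCat.ofHom ψ) ≫ sR) ⟶ Over.mk sR :=
    Over.homMk (Spec.map (CommRingCat.ofHom ψ)) rfl
  let βc : BasedFunctor.comp c' (FibCat.fpSnd f u) ≅ AlgSt.overMap (φR ≫ bt) :=
    whiskerRightIso' ec (AlgSt.overMap bt) ≪≫ eqToIso (overMap_comp φR bt).symm
  let e' : BasedFunctor.comp (fpLift aL (AlgSt.overMap ηK) αL) N ≅ dL :=
    liftMapIso aL (AlgSt.overMap ηK) (AlgSt.overMap bt) αL ≪≫ (fpLiftEta dL βL).symm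
  let x₀ := IsLocalRing.closedPoint R'
  refine ⟨AlgSt.Points.ofChart c' x₀, ?_, ?_⟩
  · let kR : Over.mk (Spec.map (CommRingCat.ofHom (algebraMap R' (FractionRing R'))) ≫
        Spec.map (CommRingCat.ofHom ψ) ≫ sR) ⟶ Over.mk (Spec.map (CommRingCat.ofHom ψ) ≫ sR) :=
      Over.homMk (Spec.map (CommRingCat.ofHom (algebraMap R' (FractionRing R')))) rfl
    let y := IsLocalRing.closedPoint (FractionRing R')
    refine ((IsLocalRing.specializes_closedPoint (R := R') (kR.left y)).map
      (continuous_ofChart hA c')).mem_closed hC ?_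
    have e1 : AlgSt.Points.ofChart c' (kR.left y) = AlgSt.Points.ofChart dL (gψ.left y) := by
      refine (congrFun (ofChart_overMap kR c') y).symm.trans ?_
      have iso : BasedFunctor.comp (AlgSt.overMap kR) c' ≅ BasedFunctor.comp (AlgSt.overMap gψ) dL :=
        whiskerRightIso' eK N ≪≫ whiskerLeftIso' (AlgSt.overMap gψ) e'
      exact (congrFun (ofChart_congr iso) y).trans (congrFun (ofChart_overMap gψ dL) y)
    rw [e1, show AlgSt.Points.ofChart dL (gψ.left y) = AlgSt.Points.ofChart (F.d i) (oU.left (gψ.left y)) from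
      congrFun (ofChart_overMap oU (F.d i)) _, show oU.left (gψ.left y) = w from huKw _]
    exact hw
  · rw [proj_ofChart f u c' βc]
    change btD (Spec.map (CommRingCat.ofHom ψ) (IsLocalRing.closedPoint R')) = v
    have h1 : Spec.map (CommRingCat.ofHom ψ) (IsLocalRing.closedPoint R') = IsLocalRing.closedPoint D :=
      IsLocalRing.comap_closedPoint ψ
    have h2 : Spec.map (CommRingCat.ofHom ρ₀) (IsLocalRing.closedPoint D) = q := by
      change PrimeSpectrum.comap ρ₀ (IsLocalRing.closedPoint D) = q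
      refine PrimeSpectrum.ext (Ideal.ext fun a => ?_)
      exact (D.valuation_lt_one_iff (ρ₀ a)).trans (hDval a)
    rw [h1]
    change (Spec.map (CommRingCat.ofHom ρ₀) ≫ eT.inv) _ = v
    rw [Scheme.Hom.comp_apply, h2]
    exact eT.hom.homeomorph.injective (by
      change eT.hom (eT.inv (eT.hom v)) = eT.hom v
      rw [← Scheme.Hom.comp_apply, ← Scheme.Hom.comp_apply, Iso.inv_hom_id, Category.comp_id])

end UCValLib
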