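import Groth.Agent.UCValLib.Main
import Mathlib.RingTheory.PowerSeries.Inverse
import Mathlib.RingTheory.DiscreteValuationRing.Basic

/-!
# Discrete valuation rings realizing specializations
-/

set_option autoImplicit false
set_option backward.isDefEq.respectTransparency false
set_option backward.isDefEq.respectTransparency.types false

universe u

open CategoryTheory CategoryTheory.Limits AlgebraicGeometry Opposite AlgSpLib Topology

noncomputable section

namespace UCValLib

/-- A specialization of the image of a point is realized by a discrete valuation ring. -/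
theorem exists_dvr_realizing {W T : Scheme.{u}} [IsAffine W] [IsAffine T] [IsNoetherianRing Γ(T, ⊤)] (h : W ⟶ T)
    [LocallyOfFiniteType h] (w : W) (v : T) (hspec : h w ⤳ v) :
    ∃ (R : Type u) (_ : CommRing R) (_ : IsDomain R) (_ : IsDiscreteValuationRing R)
      (uK : Spec (CommRingCat.of (FractionRing R)) ⟶ W) (btD : Spec (CommRingCat.of R) ⟶ T),
      uK ≫ h = Spec.map (CommRingCat.ofHom (algebraMap R (FractionRing R))) ≫ btD ∧
      (∀ y, uK y = w) ∧ btD (IsLocalRing.closedPoint R) = v := by
  classical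
  rcases eq_or_ne (h w) v with rfl | hne
  · let K : Type u := W.residueField w
    let η : K →+* FractionRing (PowerSeries K) :=
      (algebraMap (PowerSeries K) (FractionRing (PowerSeries K))).comp PowerSeries.C
    refine ⟨PowerSeries K, inferInstance, inferInstance, inferInstance,
      Spec.map (CommRingCat.ofHom η) ≫ W.fromSpecResidueField w,
      Spec.map (CommRingCat.ofHom (PowerSeries.C (R := K))) ≫ W.fromSpecResidueField w ≫ h, ?_, ?_, ?_⟩
    · rw [Category.assoc, ← Spec.map_comp_assoc]
      rfl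
    · intro y
      rw [Scheme.Hom.comp_apply]
      exact W.fromSpecResidueField_apply w _
    · rw [Scheme.Hom.comp_apply, Scheme.Hom.comp_apply]
      exact congrArg h (W.fromSpecResidueField_apply w _)
  let eT := T.isoSpec
  let iw := W.fromSpecResidueField w
  let q : PrimeSpectrum Γ(T, ⊤) := eT.hom v
  obtain ⟨β, hβ⟩ := Spec.map_surjective (R := Γ(W, ⊤)) (S := W.residueField w)
    (iw ≫ W.isoSpec.hom)
  obtain ⟨φ, hφ⟩ := Spec.map_surjective (W.isoSpec.inv ≫ h ≫ eT.hom)
  haveI : LocallyOfFiniteType (Spec.map φ) := hφ ▸ inferInstance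
  have hφft : φ.hom.FiniteType := (HasRingHomProperty.Spec_iff (P := @LocallyOfFiniteType)).1 this
  let β₀ : Γ(T, ⊤) →+* W.residueField w := β.hom.comp φ.hom
  have hβ₀ : Spec.map (CommRingCat.ofHom β₀) = iw ≫ h ≫ eT.hom := by
    rw [show CommRingCat.ofHom β₀ = φ ≫ β from rfl, Spec.map_comp, hφ, hβ, Category.assoc, Iso.hom_inv_id_assoc]
  let p : PrimeSpectrum Γ(T, ⊤) := Spec.map (CommRingCat.ofHom β₀) (IsLocalRing.closedPoint _)
  have hpw : p = eT.hom (h w) := by
    simp only [p, hβ₀, Scheme.Hom.comp_apply, iw]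
    exact congrArg eT.hom (congrArg h (Scheme.fromSpecResidueField_apply _ _))
  have hker : RingHom.ker β₀ = p.asIdeal := by
    change _ = (IsLocalRing.maximalIdeal (W.residueField w)).comap β₀
    rw [IsLocalRing.maximalIdeal_eq_bot, RingHom.ker_eq_comap_bot]
  have hpq : p.asIdeal ≤ q.asIdeal :=
    (PrimeSpectrum.le_iff_specializes p q).2 (by rw [hpw]; exact hspec.map eT.hom.continuous)
  obtain ⟨s, hs⟩ := mem_of_finiteType hφft β.hom
  let L : Subfield (W.residueField w) := Subfield.closure (Set.range β₀ ∪ (s : Set _))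
  have hLR : ∀ r, β₀ r ∈ L := fun r => Subfield.subset_closure (Or.inl ⟨r, rfl⟩)
  have hLs : ∀ x ∈ s, x ∈ L := fun x hx => Subfield.subset_closure (Or.inr hx)
  let α : Γ(T, ⊤) →+* L := β₀.codRestrict L hLR
  have hgens : Subfield.closure (Set.range α ∪ ↑(s.attach.image fun x => (⟨x.1, hLs _ x.2⟩ : L))) = ⊤ := by
    refine subfield_closure_eq_top L _ (Subfield.closure_mono ?_)
    rintro y (⟨r, rfl⟩ | hy)
    · exact ⟨α r, Or.inl ⟨r, rfl⟩, rfl⟩
    · refine ⟨⟨y, hLs _ hy⟩, Or.inr ?_, rfl⟩
      exact Finset.mem_coe.2 (Finset.mem_image.2 ⟨⟨y, hy⟩, Finset.mem_attach _ _, rfl⟩)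
  have hkerα : RingHom.ker α ≤ q.asIdeal := fun a ha => hpq (by
    rw [← hker, RingHom.mem_ker]
    exact congrArg Subtype.val (RingHom.mem_ker.1 ha))
  have hnP : ∃ a ∈ q.asIdeal, α a ≠ 0 := by
    by_contra hcon
    push Not at hcon
    refine hne (eT.hom.homeomorph.injective ?_)
    change eT.hom (h w) = eT.hom v
    rw [← hpw]
    exact PrimeSpectrum.ext (le_antisymm hpq fun a ha => by
      rw [← hker, RingHom.mem_ker]
      exact congrArg Subtype.val (hcon a ha))
  haveI : q.asIdeal.IsPrime := q.isPrime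
  let t₀ : Finset L := s.attach.image fun x => (⟨x.1, hLs _ x.2⟩ : L)
  obtain ⟨D, hD, hDmem, hDval⟩ := exists_dvr_of_hom' (A := Γ(T, ⊤)) (L := L) α q.asIdeal hkerα hnP t₀ hgens
  let ρ₀ : Γ(T, ⊤) →+* D := α.codRestrict D.toSubring hDmem
  let btD : Spec (CommRingCat.of D) ⟶ T := Spec.map (CommRingCat.ofHom ρ₀) ≫ eT.inv
  let γ : Γ(W, ⊤) →+* L := β.hom.codRestrict L (hs L hLR hLs)
  let uL : Spec (CommRingCat.of L) ⟶ W := Spec.map (CommRingCat.ofHom γ) ≫ W.isoSpec.inv
  have huL : Spec.map (CommRingCat.ofHom L.subtype) ≫ uL = iw := by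
    simp only [uL, ← Spec.map_comp_assoc]
    rw [show CommRingCat.ofHom γ ≫ CommRingCat.ofHom L.subtype = β from rfl, hβ, Category.assoc, Iso.hom_inv_id,
      Category.comp_id]
  have huLg : uL ≫ h = Spec.map (CommRingCat.ofHom (algebraMap D L)) ≫ btD := by
    refine hom_ext_of_injective (i := L.subtype) Subtype.val_injective ?_
    rw [reassoc_of% huL]
    simp only [btD, ← Spec.map_comp_assoc]
    rw [show (CommRingCat.ofHom ρ₀ ≫ CommRingCat.ofHom (algebraMap D L)) ≫ CommRingCat.ofHom L.subtype =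
        CommRingCat.ofHom β₀ from rfl, hβ₀]
    simp only [Category.assoc, Iso.hom_inv_id, Category.comp_id]
  -- pass to the standard fraction field
  let eL : L →+* FractionRing D := (FractionRing.algEquiv D L).symm.toRingEquiv.toRingHom
  have heL : eL.comp (algebraMap D L) = algebraMap D (FractionRing D) :=
    RingHom.ext fun x => (FractionRing.algEquiv D L).symm.commutes x
  let uK : Spec (CommRingCat.of (FractionRing D)) ⟶ W := Spec.map (CommRingCat.ofHom eL) ≫ uL
  have huK : uK ≫ h = Spec.map (CommRingCat.ofHom (algebraMap D (FractionRing D))) ≫ btD := by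
    rw [Category.assoc, huLg, ← Category.assoc, ← Spec.map_comp, ← CommRingCat.ofHom_comp, heL]
  have huKw : ∀ y, uK y = w := fun y => by
    have e1 : Spec.map (CommRingCat.ofHom eL) y =
        Spec.map (CommRingCat.ofHom L.subtype) (IsLocalRing.closedPoint (W.residueField w)) :=
      Subsingleton.elim (α := PrimeSpectrum L) _ _
    rw [Scheme.Hom.comp_apply, e1, ← Scheme.Hom.comp_apply, huL]
    exact W.fromSpecResidueField_apply w _
  refine ⟨D, inferInstance, inferInstance, hD, uK, btD, huK, huKw, ?_⟩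
  have h2 : Spec.map (CommRingCat.ofHom ρ₀) (IsLocalRing.closedPoint D) = q := by
    change PrimeSpectrum.comap ρ₀ (IsLocalRing.closedPoint D) = q
    refine PrimeSpectrum.ext (Ideal.ext fun a => ?_)
    exact (D.valuation_lt_one_iff (ρ₀ a)).trans (hDval a)
  rw [Scheme.Hom.comp_apply, h2]
  exact eT.hom.homeomorph.injective (by
    change eT.hom (eT.inv (eT.hom v)) = eT.hom v
    rw [← Scheme.Hom.comp_apply, ← Scheme.Hom.comp_apply, Iso.inv_hom_id, Category.comp_id])

end UCValLib
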