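import Groth.Agent.UCValLib.Limit
import Mathlib.RingTheory.FiniteType

/-!
# Discrete valuation rings suffice for universal closedness
-/

set_option autoImplicit false
set_option backward.isDefEq.respectTransparency false
set_option backward.isDefEq.respectTransparency.types false

universe u

open CategoryTheory CategoryTheory.Limits AlgebraicGeometry Opposite AlgSp FibCat FibLib AlgSpLib AlgStLib Topology

noncomputable section

namespace UCValLib

variable {S : Scheme.{u}} {𝒳 𝒴 : AlgSt.Cat S}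

local notation "IsAE" => AlgSt.IsAlgStack Scheme.etalePrecoverage

/-- A stage of finite type between two affine schemes containing given functions. -/
theorem exists_stage {T V : Over S} [IsAffine T.left] [IsAffine V.left] [IsNoetherianRing Γ(V.left, ⊤)]
    (k : T ⟶ V) (s : Finset Γ(T.left, ⊤)) :
    ∃ (B : Over S) (m' : T ⟶ B) (m : B ⟶ V), IsAffine B.left ∧ IsNoetherianRing Γ(B.left, ⊤) ∧ m' ≫ m = k ∧
      ↑s ⊆ Set.range m'.left.appTop.hom := by
  letI := k.left.appTop.hom.toAlgebra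
  let R := Algebra.adjoin Γ(V.left, ⊤) (s : Set Γ(T.left, ⊤))
  haveI : Algebra.FiniteType Γ(V.left, ⊤) R := R.fg_iff_finiteType.mp ⟨s, rfl⟩
  haveI : IsNoetherianRing R := Algebra.FiniteType.isNoetherianRing Γ(V.left, ⊤) R
  let ιR : CommRingCat.of R ⟶ Γ(T.left, ⊤) := CommRingCat.ofHom R.val.toRingHom
  let aR : Γ(V.left, ⊤) ⟶ CommRingCat.of R := CommRingCat.ofHom (algebraMap Γ(V.left, ⊤) R)
  let ml : Spec (CommRingCat.of R) ⟶ V.left := Spec.map aR ≫ V.left.isoSpec.inv
  let B : Over S := Over.mk (ml ≫ V.hom)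
  have hcomp : (T.left.isoSpec.hom ≫ Spec.map ιR) ≫ ml = k.left := by
    rw [← cancel_mono V.left.isoSpec.hom]
    simp only [ml, Category.assoc, Iso.inv_hom_id, Category.comp_id]
    rw [← Spec.map_comp]
    exact Scheme.toSpecΓ_naturality k.left |>.symm
  let m' : T ⟶ B := Over.homMk (T.left.isoSpec.hom ≫ Spec.map ιR) (by
    change _ ≫ ml ≫ V.hom = T.hom
    rw [← Category.assoc, hcomp]
    exact Over.w k)
  refine ⟨B, m', Over.homMk ml rfl, inferInstanceAs (IsAffine (Spec _)),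
    isNoetherianRing_of_ringEquiv R (Scheme.ΓSpecIso (CommRingCat.of R)).symm.commRingCatIsoToRingEquiv,
    Over.OverMorphism.ext hcomp, ?_⟩
  intro y hy
  refine ⟨(Scheme.ΓSpecIso (CommRingCat.of R)).inv.hom ⟨y, Algebra.subset_adjoin hy⟩, ?_⟩
  have e : (Scheme.ΓSpecIso (CommRingCat.of R)).inv ≫ m'.left.appTop = ιR := by
    change _ ≫ (T.left.toSpecΓ ≫ Spec.map ιR).appTop = _
    rw [Scheme.Hom.comp_appTop, ← Scheme.ΓSpecIso_inv_naturality_assoc, Scheme.toSpecΓ_appTop,
      Iso.inv_hom_id, Category.comp_id]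
  exact ConcreteCategory.congr_hom e ⟨y, Algebra.subset_adjoin hy⟩

/-- The image of a closed set over an affine scheme over a Noetherian affine chart is closed. -/
theorem isClosedMap_proj_affine (h𝒳 : IsAE 𝒳) (h𝒴 : IsAE 𝒴) {f : 𝒳 ⥤ᵇ 𝒴} (hval : DvrLift f)
    {V T : Over S} [IsAffine V.left] [IsAffine T.left] [IsNoetherianRing Γ(V.left, ⊤)] {v : overCat V ⥤ᵇ 𝒴}
    (F : ChartFamily f v) (k : T ⟶ V) : IsClosedMap (proj f (BasedFunctor.comp (AlgSt.overMap k) v)) := by
  classical
  haveI := isFibGrpd_of_isAlgStack h𝒳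
  haveI := isFibGrpd_of_isAlgStack h𝒴
  haveI := AlgStLib.isFibGrpd_overCat V
  haveI := AlgStLib.isFibGrpd_overCat T
  intro C hC
  rw [← isOpen_compl_iff, isOpen_iff_forall_mem_open]
  intro t ht
  haveI := F.fin
  haveI := Fintype.ofFinite F.ι
  let uT := BasedFunctor.comp (AlgSt.overMap k) v
  haveI : IsFibGrpd (fp f uT).p := isFibGrpd_fp
  have hAT := (isAE_fp h𝒳 (isAE_overCat T) h𝒴 f uT).atlas
  let LT := fun i => bcChart f k (u := uT) (Iso.refl _) (F.β i).some
  let Z : ∀ i, Set (pullback (F.k i) k).left := fun i => AlgSt.Points.ofChart (LT i) ⁻¹' C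
  have htZ : ∀ i, t ∉ (pullback.snd (F.k i) k).left '' Z i := fun i ⟨z, hz, e⟩ =>
    ht ⟨_, hz, (proj_bcChart f k (Iso.refl _) (F.β i).some z).trans e⟩
  choose s₀ hs₀ using fun i =>
    haveI := F.affine i
    exists_finite_stage (F.k i) k (hC.preimage (continuous_ofChart hAT (LT i))) t (htZ i)
  obtain ⟨B, m', m, hB, hBn, hk, hs⟩ := exists_stage k (Finset.univ.biUnion s₀)
  haveI := hB
  haveI := hBn
  haveI := AlgStLib.isFibGrpd_overCat B
  choose Y hYc hZY hYt using fun i => hs₀ i B m' m hk fun y hy =>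
    hs (Finset.mem_coe.2 (Finset.mem_biUnion.2 ⟨i, Finset.mem_univ i, hy⟩))
  let uB := BasedFunctor.comp (AlgSt.overMap m) v
  let FB := F.bc m
  have hAB := (isAE_fp h𝒳 (isAE_overCat B) h𝒴 f uB).atlas
  haveI : IsFibGrpd (fp f uB).p := isFibGrpd_fp
  let e : BasedFunctor.comp (AlgSt.overMap m') (AlgSt.overMap m) ≅ AlgSt.overMap k :=
    eqToIso (by rw [← overMap_comp, hk])
  let γ' : BasedFunctor.comp (AlgSt.overMap m') uB ≅ uT := whiskerRightIso' e v
  let q : fp f uT ⥤ᵇ fp f uB := bcMap f m' γ'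
  let K := closure (AlgSt.Points.map q '' C)
  have hAcl : IsClosed (proj f uB '' K) :=
    isClosedMap_proj_of_noetherian h𝒳 h𝒴 hval FB K isClosed_closure
  have hq : ∀ c, proj f uB (AlgSt.Points.map q c) = m'.left (proj f uT c) := fun c => by
    refine (pt_bijective B).1 ?_
    rw [pt_proj, ← map_overMap_pt, pt_proj, ← map_comp, ← map_comp]
    rfl
  refine ⟨(m'.left ⁻¹' (proj f uB '' K))ᶜ, ?_, (hAcl.preimage m'.left.continuous).isOpen_compl, ?_⟩
  · intro t' ht' ⟨c, hc, e'⟩
    exact ht' ⟨_, subset_closure ⟨c, hc, rfl⟩, (hq c).trans (congrArg _ e')⟩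
  rintro ⟨c, hc, ec⟩
  obtain ⟨i, a, ha⟩ := FB.surj c
  subst ha
  rw [proj_ofChart f uB _ (FB.β i).some] at ec
  refine hYt i ⟨a, ?_, ec⟩
  have ha' : a ∈ closure (AlgSt.Points.ofChart (FB.d i) ⁻¹' (AlgSt.Points.map q '' C)) :=
    (isOpenMap_ofChart_smooth (FB.d i) (FB.smooth i)).preimage_closure_subset_closure_preimage hc
  refine (hYc i).closure_subset_iff.2 (fun a' ha'' => ?_) ha'
  obtain ⟨c', hc', e'⟩ := ha''
  -- a point of the top stage
  obtain ⟨b, hb, hba⟩ := exists_bcChart_point f m' γ' (bcChartSnd f m (Iso.refl _) (F.β i).some) a' c' e'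
  let P' := pullback (pullback.snd (F.k i) m) m'
  let σ : P' ⟶ pullback (F.k i) k :=
    pullback.lift (pullback.fst _ _ ≫ pullback.fst (F.k i) m) (pullback.snd _ _) (by
      rw [Category.assoc, pullback.condition, ← Category.assoc, pullback.condition, Category.assoc, hk])
  have hσ : σ ≫ stageMap (F.k i) m' m hk = pullback.fst _ _ := by
    apply pullback.hom_ext
    · rw [Category.assoc, stageMap, pullback.lift_fst, pullback.lift_fst]
    · rw [Category.assoc, stageMap, pullback.lift_snd, pullback.lift_snd_assoc, pullback.condition]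
  let L' := bcChart f m' γ' (bcChartSnd f m (Iso.refl _) (F.β i).some)
  have iso : BasedFunctor.comp (AlgSt.overMap σ) (LT i) ≅ L' :=
    isoOfProj f k (Iso.refl _) _ _
      (whiskerLeftIso' (AlgSt.overMap σ) (bcChartMap f k (Iso.refl _) (F.β i).some) ≪≫
        eqToIso (by
          change BasedFunctor.comp (BasedFunctor.comp (AlgSt.overMap σ) (AlgSt.overMap (pullback.fst (F.k i) k))) (F.d i) =
            BasedFunctor.comp (BasedFunctor.comp (AlgSt.overMap (pullback.fst _ _))
              (AlgSt.overMap (pullback.fst (F.k i) m))) (F.d i)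
          rw [← overMap_comp, ← overMap_comp, pullback.lift_fst]) ≪≫
        (whiskerLeftIso' L' (bcMapComp f m m' k e).symm ≪≫
          whiskerRightIso' (bcChartMap f m' γ' (bcChartSnd f m (Iso.refl _) (F.β i).some))
            (bcMap f m (Iso.refl _)) ≪≫
          whiskerLeftIso' (AlgSt.overMap (pullback.fst _ _)) (bcChartMap f m (Iso.refl _) (F.β i).some)).symm)
      (whiskerLeftIso' (AlgSt.overMap σ) (bcChartSnd f k (Iso.refl _) (F.β i).some) ≪≫
        eqToIso (by rw [← overMap_comp, pullback.lift_snd]) ≪≫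
        (bcChartSnd f m' γ' (bcChartSnd f m (Iso.refl _) (F.β i).some)).symm)
  refine hZY i ⟨σ.left b, ?_, ?_⟩
  · change AlgSt.Points.ofChart (LT i) (σ.left b) ∈ C
    have e₂ : AlgSt.Points.ofChart (LT i) (σ.left b) = c' :=
      ((congrFun (ofChart_overMap σ (LT i)) b).symm.trans (congrFun (ofChart_congr iso) b)).trans hb
    rw [e₂]
    exact hc'
  · rw [← Scheme.Hom.comp_apply, ← Over.comp_left, hσ]
    exact hba

theorem isUnivClosed_of_dvrLift (h𝒳 : IsAE 𝒳) (h𝒴 : IsAE 𝒴)
    (hn : AlgSt.SmoothLocally (fun T => IsLocallyNoetherian T) 𝒴) (f : 𝒳 ⥤ᵇ 𝒴)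
    (hqc : AlgSt.IsQuasiCompactMor Scheme.etalePrecoverage f)
    (hft : AlgSt.LocQ (LocP @LocallyOfFiniteType) f) (hval : DvrLift f) :
    AlgSt.IsUnivClosed Scheme.etalePrecoverage f :=
  isUnivClosed_of_proj h𝒳 h𝒴 f fun T u =>
    isClosedMap_proj_of_affine h𝒳 h𝒴 f (fun V v hV hv T k hT => by
      haveI := hn V v hv
      haveI : IsNoetherianRing Γ(V.left, ⊤) :=
        IsLocallyNoetherian.component_noetherian ⟨⊤, isAffineOpen_top _⟩
      obtain ⟨F⟩ := exists_chartFamily h𝒳 h𝒴 hqc hft v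
      exact isClosedMap_proj_affine h𝒳 h𝒴 hval F k) T u

end UCValLib
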