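import Groth.Agent.AlgStLib.UnivTop
import Groth.Agent.AlgStLib.PointsQc
import Groth.Agent.AlgStLib.UnivInj
import Groth.Agent.AlgStSetoidLib.Etale
import Groth.Agent.FibLib.RepMor

/-!
# Points of the base change of a chart over a scheme
-/

set_option autoImplicit false
set_option backward.isDefEq.respectTransparency false
set_option backward.isDefEq.respectTransparency.types false

universe u

open CategoryTheory CategoryTheory.Limits AlgebraicGeometry Opposite AlgSp FibCat FibLib AlgSpLib AlgStLib Topology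

noncomputable section

namespace UCValLib

variable {S : Scheme.{u}} {𝒳 𝒴 : AlgSt.Cat S}

local notation "IsAE" => AlgSt.IsAlgStack Scheme.etalePrecoverage

lemma isAE_overCat (T : Over S) : IsAE (overCat T : AlgSt.Cat S) :=
  let h := AlgStLib.isAlgStack_overCat T
  ⟨AlgStSetoidLib.isStack_et h.isStack, h.diag, h.atlas⟩

lemma isAE_fp {𝒲 : AlgSt.Cat S} (h𝒳 : IsAE 𝒳) (h𝒲 : IsAE 𝒲) (h𝒴 : IsAE 𝒴) (f : 𝒳 ⥤ᵇ 𝒴)
    (g : 𝒲 ⥤ᵇ 𝒴) : IsAE (fp f g) :=
  AlgStLib.isAlgStack_fp (AlgStLib.isPrestack_of_isStack h𝒴.isStack) h𝒴.diag h𝒳 h𝒲 f g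

/-! ### Points of a scheme -/

/-- The point of the category of schemes over `T` at a point of `T`. -/
def pt (T : Over S) : T.left → AlgSt.Points (overCat T : AlgSt.Cat S) :=
  AlgSt.Points.ofChart (BasedFunctor.id _)

lemma pt_bijective (T : Over S) : Function.Bijective (pt T) := by
  unfold pt
  rw [ofChart_eq]
  exact ((map_bijective_of_isEquivOver
    (isEquivOver_comp (isEquivOver_toOverCat T) (isEquivOver_id _))).comp
      (ptsEquiv _).symm.bijective).comp (Points.schemeHomeo T).bijective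

lemma ofChart_eq_map {T : Over S} (x : overCat T ⥤ᵇ 𝒳) (t : T.left) :
    AlgSt.Points.ofChart x t = AlgSt.Points.map x (pt T t) :=
  congrFun (ofChart_comp (BasedFunctor.id _) x) t

lemma ofChart_overMap_pt {T T' : Over S} (j : T' ⟶ T) (t : T'.left) :
    AlgSt.Points.ofChart (AlgSt.overMap j) t = pt T (j.left t) :=
  congrFun (ofChart_overMap j (BasedFunctor.id (overCat T : AlgSt.Cat S))) t

lemma map_overMap_pt {T T' : Over S} (j : T' ⟶ T) (t : T'.left) :
    AlgSt.Points.map (AlgSt.overMap j) (pt T' t) = pt T (j.left t) := by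
  rw [← ofChart_eq_map]
  exact ofChart_overMap_pt j t

variable (f : 𝒳 ⥤ᵇ 𝒴) {T : Over S} (u : overCat T ⥤ᵇ 𝒴)

/-- The image in `T` of a point of the base change to `T`. -/
def proj (z : AlgSt.Points (fp f u)) : T.left :=
  (Equiv.ofBijective _ (pt_bijective T)).symm (AlgSt.Points.map (FibCat.fpSnd f u) z)

lemma pt_proj (z : AlgSt.Points (fp f u)) :
    pt T (proj f u z) = AlgSt.Points.map (FibCat.fpSnd f u) z :=
  (Equiv.ofBijective _ (pt_bijective T)).apply_symm_apply _

lemma proj_ofChart {U : Over S} (d : overCat U ⥤ᵇ fp f u) {h : U ⟶ T}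
    (β : BasedFunctor.comp d (FibCat.fpSnd f u) ≅ AlgSt.overMap h) (t : U.left) :
    proj f u (AlgSt.Points.ofChart d t) = h.left t := by
  refine (pt_bijective T).1 ?_
  rw [pt_proj, ← ofChart_overMap_pt, ← ofChart_congr β]
  exact (congrFun (ofChart_comp d (FibCat.fpSnd f u)) t).symm

/-! ### Morphisms of the category of schemes over a scheme -/

lemma overCat_hom_ext {V : Over S} {a b : (overCat V : AlgSt.Cat S).obj} {R R' : Over S} (g : R ⟶ R')
    (φ ψ : a ⟶ b) [(overCat V : AlgSt.Cat S).p.IsHomLift g φ] [(overCat V : AlgSt.Cat S).p.IsHomLift g ψ] :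
    φ = ψ :=
  Over.OverMorphism.ext ((IsHomLift.fac' (overCat V : AlgSt.Cat S).p g φ).trans
    (IsHomLift.fac' (overCat V : AlgSt.Cat S).p g ψ).symm)

lemma appIso_overCat {𝒲 : AlgSt.Cat S} {V : Over S} {F G : 𝒲 ⥤ᵇ overCat V} (α β : F ≅ G) (x : 𝒲.obj) :
    (appIso α x).hom = (appIso β x).hom := by
  haveI := appIso_lift α (a := x) (S := 𝒲.p.obj x) rfl
  haveI := appIso_lift β (a := x) (S := 𝒲.p.obj x) rfl
  exact overCat_hom_ext (𝟙 (𝒲.p.obj x)) _ _

/-! ### Change of the base scheme -/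

section BaseChange

variable {B V : Over S} (m : B ⟶ V) {v : overCat V ⥤ᵇ 𝒴} {u : overCat B ⥤ᵇ 𝒴}
  (γ : BasedFunctor.comp (AlgSt.overMap m) v ≅ u)

/-- The projection between base changes. -/
def bcMap : fp f u ⥤ᵇ fp f v :=
  fpMap (a := BasedFunctor.id _) (b := AlgSt.overMap m) (c := BasedFunctor.id _)
    (F := f) (G := v) (F' := f) (G' := u) (Iso.refl _) γ

/-- A base change of a base change. -/
def bcEquiv : fp (FibCat.fpSnd f v) (AlgSt.overMap m) ⥤ᵇ fp f u :=
  BasedFunctor.comp (fpCompRight f (AlgSt.overMap m) v)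
    (fpMap (a := BasedFunctor.id _) (b := BasedFunctor.id _) (c := BasedFunctor.id _)
      (F := f) (G := u) (F' := f) (G' := BasedFunctor.comp (AlgSt.overMap m) v) (Iso.refl _) γ.symm)

lemma bcMap_iso (z : (fp f u).obj) :
    ((bcMap f m γ).obj z).obj.iso.hom = z.obj.iso.hom ≫ (appIso γ z.obj.snd).inv := by
  change 𝟙 _ ≫ z.obj.iso.hom ≫ (appIso γ z.obj.snd).inv = _
  rw [Category.id_comp]

lemma bcEquiv_iso (x : (fp (FibCat.fpSnd f v) (AlgSt.overMap m)).obj) :
    ((bcEquiv f m γ).obj x).obj.iso.hom =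
      x.obj.fst.obj.iso.hom ≫ v.map x.obj.iso.hom ≫ (appIso γ x.obj.snd).hom := by
  change 𝟙 _ ≫ (x.obj.fst.obj.iso.hom ≫ v.map x.obj.iso.hom) ≫ (appIso γ x.obj.snd).hom = _
  rw [Category.id_comp, Category.assoc]

lemma isEquivOver_bcEquiv [IsFibGrpd 𝒳.p] [IsFibGrpd 𝒴.p] : IsEquivOver (bcEquiv f m γ) := by
  haveI := AlgStLib.isFibGrpd_overCat B
  haveI := AlgStLib.isFibGrpd_overCat V
  haveI := full_id 𝒴
  haveI := faithful_id 𝒴
  exact isEquivOver_comp (isEquivOver_fpCompRight f (AlgSt.overMap m) v)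
    (isEquivOver_fpMap _ _ (isEquivOver_id _) (isEquivOver_id _))

/-- The projection of a base change of a base change. -/
def bcEquivBcMap :
    BasedFunctor.comp (bcEquiv f m γ) (bcMap f m γ) ≅ FibCat.fpFst (FibCat.fpSnd f v) (AlgSt.overMap m) :=
  fpIsoExt _ _ (Iso.refl _) (fpIso (FibCat.fpSnd f v) (AlgSt.overMap m)).symm fun x => by
    change f.map (𝟙 x.obj.fst.obj.fst) ≫ x.obj.fst.obj.iso.hom =
      ((bcMap f m γ).obj ((bcEquiv f m γ).obj x)).obj.iso.hom ≫ v.map x.obj.iso.inv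
    rw [bcMap_iso, bcEquiv_iso, show f.map (𝟙 x.obj.fst.obj.fst) = 𝟙 _ from f.toFunctor.map_id _,
      Category.id_comp]
    change _ = ((_ ≫ _ ≫ (appIso γ x.obj.snd).hom) ≫ (appIso γ x.obj.snd).inv) ≫ _
    simp only [Category.assoc, Iso.hom_inv_id_assoc]
    rw [← v.toFunctor.map_comp, Iso.hom_inv_id, v.toFunctor.map_id]
    exact (Category.comp_id _).symm

/-- Lifts to a base change are determined by their projections. -/
def isoOfProj {𝒲 : AlgSt.Cat S} (L L' : 𝒲 ⥤ᵇ fp f u)
    (e₁ : BasedFunctor.comp L (bcMap f m γ) ≅ BasedFunctor.comp L' (bcMap f m γ))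
    (e₂ : BasedFunctor.comp L (FibCat.fpSnd f u) ≅ BasedFunctor.comp L' (FibCat.fpSnd f u)) : L ≅ L' :=
  fpIsoExt L L' (whiskerRightIso' e₁ (FibCat.fpFst f v)) e₂ fun x => by
    have h : f.map (appIso e₁ x).hom.hom.fst ≫ ((BasedFunctor.comp L' (bcMap f m γ)).obj x).obj.iso.hom =
        ((BasedFunctor.comp L (bcMap f m γ)).obj x).obj.iso.hom ≫ v.map (appIso e₁ x).hom.hom.snd :=
      (appIso e₁ x).hom.hom.w
    have h2 : (appIso e₁ x).hom.hom.snd = (AlgSt.overMap m).map (appIso e₂ x).hom :=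
      appIso_overCat (whiskerRightIso' e₁ (FibCat.fpSnd f v)) (whiskerRightIso' e₂ (AlgSt.overMap m)) x
    rw [h2] at h
    have nat : u.map (appIso e₂ x).hom ≫ (appIso γ (L'.obj x).obj.snd).inv =
        (appIso γ (L.obj x).obj.snd).inv ≫ v.map ((AlgSt.overMap m).map (appIso e₂ x).hom) :=
      appIso_naturality γ.symm (appIso e₂ x).hom
    have h' : f.map (appIso (whiskerRightIso' e₁ (FibCat.fpFst f v)) x).hom ≫
        ((bcMap f m γ).obj (L'.obj x)).obj.iso.hom =
        ((bcMap f m γ).obj (L.obj x)).obj.iso.hom ≫ v.map ((AlgSt.overMap m).map (appIso e₂ x).hom) := h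
    rw [bcMap_iso, bcMap_iso, Category.assoc, ← nat] at h'
    rw [← cancel_mono (appIso γ (L'.obj x).obj.snd).inv, Category.assoc, Category.assoc]
    exact h' 

/-- Composition of projections. -/
def bcMapComp {B' : Over S} (m' : B' ⟶ B) (k : B' ⟶ V)
    (e : BasedFunctor.comp (AlgSt.overMap m') (AlgSt.overMap m) ≅ AlgSt.overMap k) :
    BasedFunctor.comp
        (bcMap f m' (v := BasedFunctor.comp (AlgSt.overMap m) v) (u := BasedFunctor.comp (AlgSt.overMap k) v)
          (whiskerRightIso' e v))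
        (bcMap f m (u := BasedFunctor.comp (AlgSt.overMap m) v) (Iso.refl _)) ≅
      bcMap f k (u := BasedFunctor.comp (AlgSt.overMap k) v) (Iso.refl _) :=
  fpIsoExt _ _ (Iso.refl _) (whiskerLeftIso' (FibCat.fpSnd f _) e) fun x => by
    change f.map (𝟙 x.obj.fst) ≫ ((bcMap f k (Iso.refl _)).obj x).obj.iso.hom =
      ((bcMap f m (u := BasedFunctor.comp (AlgSt.overMap m) v) (Iso.refl _)).obj
        ((bcMap f m' (v := BasedFunctor.comp (AlgSt.overMap m) v) (u := BasedFunctor.comp (AlgSt.overMap k) v)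
          (whiskerRightIso' e v)).obj x)).obj.iso.hom ≫ v.map (appIso e x.obj.snd).hom
    rw [bcMap_iso, bcMap_iso, bcMap_iso, show f.map (𝟙 x.obj.fst) = 𝟙 _ from f.toFunctor.map_id _,
      Category.id_comp]
    change x.obj.iso.hom ≫ 𝟙 _ = ((x.obj.iso.hom ≫ v.map (appIso e x.obj.snd).inv) ≫ 𝟙 _) ≫ _
    simp only [Category.comp_id, Category.assoc]
    rw [← v.toFunctor.map_comp, Iso.inv_hom_id, v.toFunctor.map_id]
    exact (Category.comp_id _).symm

variable {U : Over S} {d : overCat U ⥤ᵇ fp f v} {k : U ⟶ V}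
  (β : BasedFunctor.comp d (FibCat.fpSnd f v) ≅ AlgSt.overMap k)

/-- The pullback of slices, in terms of the given chart. -/
def bcSlice : overCat (pullback k m) ⥤ᵇ fp (BasedFunctor.comp d (FibCat.fpSnd f v)) (AlgSt.overMap m) :=
  BasedFunctor.comp (FibLib.sliceCmp k m)
    (fpMap (a := BasedFunctor.id _) (b := BasedFunctor.id _) (c := BasedFunctor.id _)
      (F' := AlgSt.overMap k) (G' := AlgSt.overMap m) β (Iso.refl _))

lemma isEquivOver_bcSlice : IsEquivOver (bcSlice f m β) := by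
  haveI := full_id (overCat V : AlgSt.Cat S)
  haveI := faithful_id (overCat V : AlgSt.Cat S)
  exact isEquivOver_comp (isEquivOver_sliceCmp k m) (isEquivOver_fpMap _ _ (isEquivOver_id _) (isEquivOver_id _))

/-- The base change of a chart. -/
def bcChart : overCat (pullback k m) ⥤ᵇ fp f u :=
  BasedFunctor.comp (BasedFunctor.comp (bcSlice f m β) (pairLeft d (FibCat.fpSnd f v) (AlgSt.overMap m)))
    (bcEquiv f m γ)

/-- Its image in the base. -/
def bcChartSnd : BasedFunctor.comp (bcChart f m γ β) (FibCat.fpSnd f u) ≅ AlgSt.overMap (pullback.snd k m) :=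
  Iso.refl _

/-- Its image in the chart. -/
def bcChartMap : BasedFunctor.comp (bcChart f m γ β) (bcMap f m γ) ≅
    BasedFunctor.comp (AlgSt.overMap (pullback.fst k m)) d :=
  whiskerLeftIso' (BasedFunctor.comp (bcSlice f m β) (pairLeft d (FibCat.fpSnd f v) (AlgSt.overMap m)))
    (bcEquivBcMap f m γ)

lemma proj_bcChart (b : (pullback k m).left) :
    proj f u (AlgSt.Points.ofChart (bcChart f m γ β) b) = (pullback.snd k m).left b :=
  proj_ofChart f u _ (bcChartSnd f m γ β) b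

lemma map_bcMap_bcChart (b : (pullback k m).left) :
    AlgSt.Points.map (bcMap f m γ) (AlgSt.Points.ofChart (bcChart f m γ β) b) =
      AlgSt.Points.ofChart d ((pullback.fst k m).left b) := by
  refine (congrFun (ofChart_comp _ _) b).symm.trans ?_
  rw [ofChart_congr (bcChartMap f m γ β)]
  exact congrFun (ofChart_overMap _ d) b

variable [IsFibGrpd 𝒳.p] [IsFibGrpd 𝒴.p]

/-- The chart of a base change sees every point over a point of the chart. -/
theorem exists_bcChart_point (a : U.left) (c : AlgSt.Points (fp f u))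
    (h : AlgSt.Points.map (bcMap f m γ) c = AlgSt.Points.ofChart d a) :
    ∃ b : (pullback k m).left, AlgSt.Points.ofChart (bcChart f m γ β) b = c ∧
      (pullback.fst k m).left b = a := by
  haveI := AlgStLib.isFibGrpd_overCat B
  haveI := AlgStLib.isFibGrpd_overCat V
  haveI := AlgStLib.isFibGrpd_overCat U
  haveI : IsFibGrpd (fp f v).p := isFibGrpd_fp
  haveI : IsFibGrpd (fp (FibCat.fpSnd f v) (AlgSt.overMap m)).p := isFibGrpd_fp
  obtain ⟨c', rfl⟩ := (map_bijective_of_isEquivOver (isEquivOver_bcEquiv f m γ)).2 c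
  rw [← map_comp, map_congr (bcEquivBcMap f m γ), ofChart_eq_map] at h
  obtain ⟨w, hw₁, hw₂⟩ := exists_point_fp (g := d) (f := FibCat.fpFst (FibCat.fpSnd f v) (AlgSt.overMap m))
    (pt U a) c' h.symm
  let w' := AlgSt.Points.map (fpPaste d (FibCat.fpSnd f v) (AlgSt.overMap m)) w
  obtain ⟨b', hb'⟩ := (map_bijective_of_isEquivOver (isEquivOver_bcSlice f m β)).2 w'
  obtain ⟨b, rfl⟩ := (pt_bijective _).2 b'
  refine ⟨b, ?_, (pt_bijective U).1 ?_⟩
  · rw [ofChart_eq_map, bcChart, map_comp, map_comp, hb']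
    refine congrArg _ ?_
    change AlgSt.Points.map _ (AlgSt.Points.map _ w) = c'
    rw [← map_comp, ← map_congr (pairLeftIso d (FibCat.fpSnd f v) (AlgSt.overMap m)), map_comp, map_id, hw₂]
  · rw [← map_overMap_pt]
    refine Eq.trans ?_ hw₁
    change AlgSt.Points.map (BasedFunctor.comp (bcSlice f m β)
      (FibCat.fpFst (BasedFunctor.comp d (FibCat.fpSnd f v)) (AlgSt.overMap m))) _ = _
    rw [map_comp, hb', ← map_comp]
    rfl

theorem repByAlgSpWith_bcChart {P : MorphismProperty (Sp S)} (hd : AlgSt.RepByAlgSpWith P d) :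
    AlgSt.RepByAlgSpWith P (bcChart f m γ β) := by
  haveI := AlgStLib.isFibGrpd_overCat B
  haveI := AlgStLib.isFibGrpd_overCat V
  haveI := AlgStLib.isFibGrpd_overCat U
  haveI := AlgStLib.isFibGrpd_overCat (pullback k m)
  haveI : IsFibGrpd (fp f v).p := isFibGrpd_fp
  haveI : IsFibGrpd (fp f u).p := isFibGrpd_fp
  haveI : IsFibGrpd (fp (FibCat.fpSnd f v) (AlgSt.overMap m)).p := isFibGrpd_fp
  haveI : IsFibGrpd (fp (BasedFunctor.comp d (FibCat.fpSnd f v)) (AlgSt.overMap m)).p := isFibGrpd_fp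
  obtain ⟨N, hN, ⟨μ⟩, -⟩ := exists_inverse (isEquivOver_bcEquiv f m γ)
  let K := BasedFunctor.comp (bcSlice f m β) (pairLeft d (FibCat.fpSnd f v) (AlgSt.overMap m))
  refine (repByAlgSpWith_square_iff (f := K) (f' := bcChart f m γ β) (a := BasedFunctor.id _) (b := N)
    (isEquivOver_id _) hN (whiskerLeftIso' K μ) _).mp ?_
  exact (repByAlgSpWith_square_iff (f := pairLeft d (FibCat.fpSnd f v) (AlgSt.overMap m)) (f' := K)
    (a := bcSlice f m β) (b := BasedFunctor.id _) (isEquivOver_bcSlice f m β) (isEquivOver_id _) (Iso.refl _) _).mp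
      (repByAlgSpWith_pairLeft d (FibCat.fpSnd f v) (AlgSt.overMap m) hd)

end BaseChange

end UCValLib
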