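import Groth.Agent.UCValLib.Noeth
import Mathlib.AlgebraicGeometry.Morphisms.Affine

/-!
# Descending a closed set missing a fibre to a finite stage
-/

set_option autoImplicit false
set_option backward.isDefEq.respectTransparency false
set_option backward.isDefEq.respectTransparency.types false

universe u

open CategoryTheory CategoryTheory.Limits AlgebraicGeometry Opposite Topology

noncomputable section

namespace UCValLib

variable {S : Scheme.{u}}

/-- The prime of the global sections at a point. -/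
def primeAt (X : Scheme.{u}) (x : X) : Ideal Γ(X, ⊤) := PrimeSpectrum.asIdeal (X.toSpecΓ x : PrimeSpectrum Γ(X, ⊤))

instance (X : Scheme.{u}) (x : X) : (primeAt X x).IsPrime :=
  (X.toSpecΓ x : PrimeSpectrum Γ(X, ⊤)).isPrime

lemma mem_primeAt_map {X Y : Scheme.{u}} (g : X ⟶ Y) (x : X) (a : Γ(Y, ⊤)) :
    a ∈ primeAt Y (g x) ↔ g.appTop.hom a ∈ primeAt X x := by
  have h : Y.toSpecΓ (g x) = Spec.map g.appTop (X.toSpecΓ x) := by
    rw [← Scheme.Hom.comp_apply, ← Scheme.Hom.comp_apply, Scheme.toSpecΓ_naturality]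
  unfold primeAt
  rw [h]
  rfl

lemma isClosed_setOf_mem_primeAt {X : Scheme.{u}} (a : Γ(X, ⊤)) : IsClosed {x | a ∈ primeAt X x} := by
  have : IsClosed (PrimeSpectrum.zeroLocus {a} : Set (PrimeSpectrum Γ(X, ⊤))) := PrimeSpectrum.isClosed_zeroLocus _
  convert this.preimage X.toSpecΓ.continuous using 1
  ext x
  change a ∈ (X.toSpecΓ x : PrimeSpectrum Γ(X, ⊤)).asIdeal ↔ ({a} : Set Γ(X, ⊤)) ⊆ _
  exact Set.singleton_subset_iff.symm

lemma closure_range_pushout {A B C Q : CommRingCat.{u}} {f : A ⟶ B} {g : A ⟶ C} {a : B ⟶ Q} {b : C ⟶ Q}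
    (h : IsPushout f g a b) :
    Subring.closure (Set.range a.hom ∪ Set.range b.hom) = ⊤ := by
  let R := Subring.closure (Set.range a.hom ∪ Set.range b.hom)
  let a' : B ⟶ CommRingCat.of R :=
    CommRingCat.ofHom (a.hom.codRestrict R fun x => Subring.subset_closure (Or.inl ⟨x, rfl⟩))
  let b' : C ⟶ CommRingCat.of R :=
    CommRingCat.ofHom (b.hom.codRestrict R fun x => Subring.subset_closure (Or.inr ⟨x, rfl⟩))
  have w : f ≫ a' = g ≫ b' := CommRingCat.hom_ext (RingHom.ext fun x =>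
    Subtype.ext (ConcreteCategory.congr_hom h.w x))
  have e : h.desc a' b' w ≫ CommRingCat.ofHom R.subtype = 𝟙 Q := h.hom_ext
    (by rw [h.inl_desc_assoc, Category.comp_id]; rfl) (by rw [h.inr_desc_assoc, Category.comp_id]; rfl)
  refine eq_top_iff.2 fun x _ => ?_
  have := ConcreteCategory.congr_hom e x
  change ((h.desc a' b' w).hom x).1 = x at this
  exact this ▸ ((h.desc a' b' w).hom x).2

variable {V T W : Over S}

/-- The comparison of pullbacks over a stage. -/
def stageMap (h : W ⟶ V) {k : T ⟶ V} {B : Over S} (m' : T ⟶ B) (m : B ⟶ V) (hk : m' ≫ m = k) :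
    pullback h k ⟶ pullback h m :=
  pullback.lift (pullback.fst h k) (pullback.snd h k ≫ m') (by rw [pullback.condition, Category.assoc, hk])

theorem exists_finite_stage [IsAffine V.left] [IsAffine T.left] [IsAffine W.left] (h : W ⟶ V) (k : T ⟶ V)
    {Z : Set (pullback h k).left} (hZ : IsClosed Z) (t : T.left) (ht : t ∉ (pullback.snd h k).left '' Z) :
    ∃ s₀ : Finset Γ(T.left, ⊤), ∀ (B : Over S) (m' : T ⟶ B) (m : B ⟶ V) (hk : m' ≫ m = k),
      (↑s₀ ⊆ Set.range m'.left.appTop.hom) → ∃ Y : Set (pullback h m).left, IsClosed Y ∧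
        (stageMap h m' m hk).left '' Z ⊆ Y ∧ m'.left t ∉ (pullback.snd h m).left '' Y := by
  classical
  let P := pullback h k
  have sq := isPullback_left h k
  haveI : IsAffine P.left := isAffine_pullback_left h k
  let φ := (pullback.fst h k).left.appTop.hom
  let ψ := (pullback.snd h k).left.appTop.hom
  let p := primeAt T.left t
  obtain ⟨I, hI⟩ := (PrimeSpectrum.isClosed_iff_zeroLocus_ideal _).mp
    ((Scheme.homeoOfIso P.left.isoSpec).isClosed_image.2 hZ)
  have hIz : ∀ z ∈ Z, I ≤ primeAt P.left z := fun z hz => by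
    have : (Scheme.homeoOfIso P.left.isoSpec z : PrimeSpectrum Γ(P.left, ⊤)) ∈ PrimeSpectrum.zeroLocus (I : Set _) :=
      hI ▸ ⟨z, hz, rfl⟩
    exact this
  obtain ⟨r, hr, hrI⟩ : ∃ r, r ∉ p ∧ ψ r ∈ I ⊔ p.map ψ := by
    by_contra hcon
    push Not at hcon
    obtain ⟨q, hq, hle, hdisj⟩ := Ideal.exists_le_prime_disjoint (I ⊔ p.map ψ) (p.primeCompl.map ψ) (by
      rw [Set.disjoint_left]
      rintro _ hx ⟨r, hr, rfl⟩
      exact hcon r hr hx)
    have hqp : q.comap ψ = p := le_antisymm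
      (fun a ha => by_contra fun hap => Set.disjoint_left.1 hdisj ha ⟨a, hap, rfl⟩)
      (Ideal.map_le_iff_le_comap.1 (le_sup_right.trans hle))
    obtain ⟨z, hz, ez⟩ := hI.superset (show (⟨q, hq⟩ : PrimeSpectrum Γ(P.left, ⊤)) ∈ PrimeSpectrum.zeroLocus (I : Set _)
      from (le_sup_left (a := I) (b := p.map ψ)).trans hle)
    refine ht ⟨z, hz, (Scheme.homeoOfIso T.left.isoSpec).injective (PrimeSpectrum.ext (Ideal.ext fun a => ?_))⟩
    change a ∈ primeAt T.left ((pullback.snd h k).left z) ↔ a ∈ p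
    rw [mem_primeAt_map, ← hqp, Ideal.mem_comap]
    change _ ∈ PrimeSpectrum.asIdeal (Scheme.homeoOfIso P.left.isoSpec z : PrimeSpectrum Γ(P.left, ⊤)) ↔ _
    rw [ez]
  obtain ⟨F, hF, x, hx, hFx⟩ := Submodule.mem_sup.1 hrI
  -- functions coming from a finite stage
  have good : ∀ c : Γ(P.left, ⊤), ∃ s : Finset Γ(T.left, ⊤), ∀ (B : Over S) (m' : T ⟶ B) (m : B ⟶ V)
      (hk : m' ≫ m = k), (↑s ⊆ Set.range m'.left.appTop.hom) →
        c ∈ Set.range (stageMap h m' m hk).left.appTop.hom := by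
    intro c
    have hc : c ∈ Subring.closure (Set.range φ ∪ Set.range ψ) := by
      rw [closure_range_pushout (isPushout_appTop_of_isPullback sq)]
      trivial
    have appTop_eq : ∀ {X Y Z : Scheme.{u}} {a : X ⟶ Y} {b : Y ⟶ Z} {c : X ⟶ Z} (_ : a ≫ b = c) (y : Γ(Z, ⊤)),
        a.appTop.hom (b.appTop.hom y) = c.appTop.hom y := by
      rintro X Y Z a b c rfl y
      rw [Scheme.Hom.comp_appTop]
      rfl
    induction hc using Subring.closure_induction with
    | mem y hy =>
      rcases hy with ⟨w, rfl⟩ | ⟨b, rfl⟩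
      · refine ⟨∅, fun B m' m hk _ => ⟨(pullback.fst h m).left.appTop.hom w, appTop_eq ?_ w⟩⟩
        rw [← Over.comp_left, stageMap, pullback.lift_fst]
      · refine ⟨{b}, fun B m' m hk hb => ?_⟩
        obtain ⟨b', hb'⟩ := hb (Finset.mem_coe.2 (Finset.mem_singleton_self b))
        refine ⟨(pullback.snd h m).left.appTop.hom b', ?_⟩
        rw [appTop_eq (c := (pullback.snd h k).left ≫ m'.left) (by
          rw [← Over.comp_left, ← Over.comp_left, stageMap, pullback.lift_snd]), ← hb']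
        exact (appTop_eq rfl b').symm
    | zero => exact ⟨∅, fun B m' m hk _ => ⟨0, map_zero _⟩⟩
    | one => exact ⟨∅, fun B m' m hk _ => ⟨1, map_one _⟩⟩
    | add a b _ _ ha hb =>
      obtain ⟨s, hs⟩ := ha
      obtain ⟨s', hs'⟩ := hb
      refine ⟨s ∪ s', fun B m' m hk hsub => ?_⟩
      obtain ⟨a', ha'⟩ := hs B m' m hk (fun y hy => hsub (Finset.mem_coe.2 (Finset.mem_union_left _ hy)))
      obtain ⟨b', hb'⟩ := hs' B m' m hk (fun y hy => hsub (Finset.mem_coe.2 (Finset.mem_union_right _ hy)))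
      exact ⟨a' + b', by rw [map_add, ha', hb']⟩
    | neg a _ ha =>
      obtain ⟨s, hs⟩ := ha
      refine ⟨s, fun B m' m hk hsub => ?_⟩
      obtain ⟨a', ha'⟩ := hs B m' m hk hsub
      exact ⟨-a', by rw [map_neg, ha']⟩
    | mul a b _ _ ha hb =>
      obtain ⟨s, hs⟩ := ha
      obtain ⟨s', hs'⟩ := hb
      refine ⟨s ∪ s', fun B m' m hk hsub => ?_⟩
      obtain ⟨a', ha'⟩ := hs B m' m hk (fun y hy => hsub (Finset.mem_coe.2 (Finset.mem_union_left _ hy)))
      obtain ⟨b', hb'⟩ := hs' B m' m hk (fun y hy => hsub (Finset.mem_coe.2 (Finset.mem_union_right _ hy)))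
      exact ⟨a' * b', by rw [map_mul, ha', hb']⟩
  -- functions vanishing on the fibre
  have goodp : ∃ s : Finset Γ(T.left, ⊤), ∀ (B : Over S) (m' : T ⟶ B) (m : B ⟶ V)
      (hk : m' ≫ m = k), (↑s ⊆ Set.range m'.left.appTop.hom) →
        ∃ y ∈ (primeAt B.left (m'.left t)).map (pullback.snd h m).left.appTop.hom,
          (stageMap h m' m hk).left.appTop.hom y = x := by
    clear hFx
    induction hx using Submodule.span_induction with
    | mem y hy =>
      obtain ⟨b, hb, rfl⟩ := hy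
      refine ⟨{b}, fun B m' m hk hs => ?_⟩
      obtain ⟨b', hb'⟩ := hs (Finset.mem_coe.2 (Finset.mem_singleton_self b))
      refine ⟨_, Ideal.mem_map_of_mem _ ((mem_primeAt_map m'.left t b').2 (hb'.symm ▸ hb)), ?_⟩
      have e : (stageMap h m' m hk).left ≫ (pullback.snd h m).left = (pullback.snd h k).left ≫ m'.left := by
        rw [← Over.comp_left, ← Over.comp_left, stageMap, pullback.lift_snd]
      have e' := ConcreteCategory.congr_hom (congrArg Scheme.Hom.appTop e) b'
      rw [Scheme.Hom.comp_appTop, Scheme.Hom.comp_appTop] at e'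
      rw [← hb']
      exact e'
    | zero => exact ⟨∅, fun B m' m hk _ => ⟨0, Ideal.zero_mem _, map_zero _⟩⟩
    | add a b _ _ ha hb =>
      obtain ⟨s, hs⟩ := ha
      obtain ⟨s', hs'⟩ := hb
      refine ⟨s ∪ s', fun B m' m hk hsub => ?_⟩
      obtain ⟨a', ha₁, ha'⟩ := hs B m' m hk (fun y hy => hsub (Finset.mem_coe.2 (Finset.mem_union_left _ hy)))
      obtain ⟨b', hb₁, hb'⟩ := hs' B m' m hk (fun y hy => hsub (Finset.mem_coe.2 (Finset.mem_union_right _ hy)))
      exact ⟨a' + b', Ideal.add_mem _ ha₁ hb₁, by rw [map_add, ha', hb']⟩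
    | smul c a _ ha =>
      obtain ⟨s, hs⟩ := ha
      obtain ⟨s', hs'⟩ := good c
      refine ⟨s ∪ s', fun B m' m hk hsub => ?_⟩
      obtain ⟨a', ha₁, ha'⟩ := hs B m' m hk (fun y hy => hsub (Finset.mem_coe.2 (Finset.mem_union_left _ hy)))
      obtain ⟨c', hc'⟩ := hs' B m' m hk (fun y hy => hsub (Finset.mem_coe.2 (Finset.mem_union_right _ hy)))
      exact ⟨c' * a', Ideal.mul_mem_left _ _ ha₁, by rw [map_mul, ha', hc']; rfl⟩
  obtain ⟨s₁, hs₁⟩ := goodp
  refine ⟨insert r s₁, fun B m' m hk hsub => ?_⟩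
  obtain ⟨xb, hxb, hxb'⟩ := hs₁ B m' m hk (fun y hy => hsub (Finset.mem_coe.2 (Finset.mem_insert_of_mem hy)))
  obtain ⟨rb, hrb⟩ := hsub (Finset.mem_coe.2 (Finset.mem_insert_self r s₁))
  let ψB := (pullback.snd h m).left.appTop.hom
  let g := (stageMap h m' m hk).left
  have hg : g.appTop.hom (ψB rb) = ψ r := by
    have e : g ≫ (pullback.snd h m).left = (pullback.snd h k).left ≫ m'.left := by
      rw [← Over.comp_left, ← Over.comp_left, stageMap, pullback.lift_snd]
    have e' := ConcreteCategory.congr_hom (congrArg Scheme.Hom.appTop e) rb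
    rw [Scheme.Hom.comp_appTop, Scheme.Hom.comp_appTop] at e'
    rw [← hrb]
    exact e'
  have hgF : g.appTop.hom (ψB rb - xb) = F := by
    rw [map_sub, hg, hxb', ← hFx, add_sub_cancel_right]
  refine ⟨{a | ψB rb - xb ∈ primeAt _ a}, isClosed_setOf_mem_primeAt _, ?_, ?_⟩
  · rintro _ ⟨z, hz, rfl⟩
    change _ ∈ primeAt _ _
    rw [mem_primeAt_map, hgF]
    exact hIz z hz hF
  · rintro ⟨a, ha, e⟩
    have hrp : rb ∉ primeAt B.left (m'.left t) := fun h' => hr (hrb ▸ (mem_primeAt_map m'.left t rb).1 h')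
    refine hrp ?_
    rw [← e, mem_primeAt_map]
    have hx' : xb ∈ primeAt _ a := by
      refine (Ideal.map_le_iff_le_comap.2 fun b hb => ?_) hxb
      rw [Ideal.mem_comap, ← mem_primeAt_map, e]
      exact hb
    have := Ideal.add_mem _ (show ψB rb - xb ∈ primeAt _ a from ha) hx'
    rwa [sub_add_cancel] at this

end UCValLib
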