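import Groth.Agent.UCValLib.Chart
import Groth.Agent.AlgStLib.LocQ5

/-!
# Universal closedness is tested on affine schemes over affine charts
-/

set_option autoImplicit false
set_option backward.isDefEq.respectTransparency false
set_option backward.isDefEq.respectTransparency.types false

universe u

open CategoryTheory CategoryTheory.Limits AlgebraicGeometry Opposite AlgSp FibCat FibLib AlgSpLib AlgStLib Topology

noncomputable section

namespace UCValLib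

variable {S : Scheme.{u}} {𝒳 𝒴 : AlgSt.Cat S}

local notation "IsAE" => AlgSt.IsAlgStack Scheme.etalePrecoverage

/-- The base change of the first projection of an iterated fibre product. -/
def compRightMapIso {𝒵 𝒲 : AlgSt.Cat S} (f : 𝒳 ⥤ᵇ 𝒴) (z : 𝒲 ⥤ᵇ 𝒵) (g : 𝒵 ⥤ᵇ 𝒴) :
    BasedFunctor.comp (fpCompRight f z g)
        (fpMap (a := BasedFunctor.id _) (b := z) (c := BasedFunctor.id _)
          (F := f) (G := g) (F' := f) (G' := BasedFunctor.comp z g) (Iso.refl _) (Iso.refl _)) ≅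
      FibCat.fpFst (FibCat.fpSnd f g) z :=
  fpIsoExt _ _ (Iso.refl _) (fpIso (FibCat.fpSnd f g) z).symm fun x => by
    change f.map (𝟙 x.obj.fst.obj.fst) ≫ x.obj.fst.obj.iso.hom =
      (𝟙 _ ≫ (x.obj.fst.obj.iso.hom ≫ g.map x.obj.iso.hom) ≫ 𝟙 _) ≫ g.map x.obj.iso.inv
    rw [show f.map (𝟙 x.obj.fst.obj.fst) = 𝟙 _ from f.toFunctor.map_id _, Category.id_comp, Category.id_comp,
      Category.assoc, Category.assoc, Category.id_comp, ← g.toFunctor.map_comp, Iso.hom_inv_id,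
      g.toFunctor.map_id]
    exact (Category.comp_id _).symm

theorem exists_closed_preimage {𝒵 𝒲 : AlgSt.Cat S} [IsFibGrpd 𝒳.p] [IsFibGrpd 𝒴.p] [IsFibGrpd 𝒵.p]
    [IsFibGrpd 𝒲.p] (f : 𝒳 ⥤ᵇ 𝒴) (z : 𝒲 ⥤ᵇ 𝒵) (g : 𝒵 ⥤ᵇ 𝒴)
    (hA : AlgSt.HasAtlas (LocP @Smooth) (fp f g)) {C : Set (AlgSt.Points (fp f g))} (hC : IsClosed C) :
    ∃ D : Set (AlgSt.Points (fp f (BasedFunctor.comp z g))), IsClosed D ∧
      AlgSt.Points.map z ⁻¹' (AlgSt.Points.map (FibCat.fpSnd f g) '' C) =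
        AlgSt.Points.map (FibCat.fpSnd f (BasedFunctor.comp z g)) '' D := by
  haveI : IsFibGrpd (fp f g).p := isFibGrpd_fp
  let M : fp f (BasedFunctor.comp z g) ⥤ᵇ fp f g :=
    fpMap (a := BasedFunctor.id _) (b := z) (c := BasedFunctor.id _)
      (F := f) (G := g) (F' := f) (G' := BasedFunctor.comp z g) (Iso.refl _) (Iso.refl _)
  refine ⟨AlgSt.Points.map M ⁻¹' C, hC.preimage (continuous_map hA M), ?_⟩
  ext w
  constructor
  · rintro ⟨c, hc, e⟩
    obtain ⟨p, hp₁, hp₂⟩ := exists_point_fp (g := FibCat.fpSnd f g) (f := z) c w e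
    refine ⟨AlgSt.Points.map (fpCompRight f z g) p, ?_, ?_⟩
    · rw [Set.mem_preimage, ← map_comp, map_congr (compRightMapIso f z g), hp₁]
      exact hc
    · rw [← map_comp]
      exact hp₂
  · rintro ⟨c, hc, rfl⟩
    refine ⟨_, hc, ?_⟩
    rw [← map_comp, ← map_comp]
    rfl

lemma preimage_pt_image (f : 𝒳 ⥤ᵇ 𝒴) {T : Over S} (u : overCat T ⥤ᵇ 𝒴) (D : Set (AlgSt.Points (fp f u))) :
    pt T ⁻¹' (AlgSt.Points.map (FibCat.fpSnd f u) '' D) = proj f u '' D := by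
  ext t
  constructor
  · rintro ⟨d, hd, e⟩
    exact ⟨d, hd, (pt_bijective T).1 ((pt_proj f u d).trans e)⟩
  · rintro ⟨d, hd, rfl⟩
    exact ⟨d, hd, (pt_proj f u d).symm⟩

theorem exists_closed_preimage_proj (h𝒳 : IsAE 𝒳) (h𝒴 : IsAE 𝒴) (f : 𝒳 ⥤ᵇ 𝒴) {T T' : Over S} (j : T' ⟶ T)
    (u : overCat T ⥤ᵇ 𝒴) {C : Set (AlgSt.Points (fp f u))} (hC : IsClosed C) :
    ∃ D : Set (AlgSt.Points (fp f (BasedFunctor.comp (AlgSt.overMap j) u))), IsClosed D ∧
      j.left ⁻¹' (proj f u '' C) = proj f (BasedFunctor.comp (AlgSt.overMap j) u) '' D := by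
  haveI := isFibGrpd_of_isAlgStack h𝒳
  haveI := isFibGrpd_of_isAlgStack h𝒴
  haveI := AlgStLib.isFibGrpd_overCat T
  haveI := AlgStLib.isFibGrpd_overCat T'
  obtain ⟨D, hD, e⟩ := exists_closed_preimage f (AlgSt.overMap j) u (isAE_fp h𝒳 (isAE_overCat T) h𝒴 f u).atlas hC
  refine ⟨D, hD, ?_⟩
  rw [← preimage_pt_image, ← preimage_pt_image, ← e]
  ext t
  simp only [Set.mem_preimage, map_overMap_pt]

theorem isClosedMap_proj_congr (h𝒳 : IsAE 𝒳) (h𝒴 : IsAE 𝒴) (f : 𝒳 ⥤ᵇ 𝒴) {T : Over S}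
    {u u' : overCat T ⥤ᵇ 𝒴} (α : u ≅ u') (h : IsClosedMap (proj f u')) : IsClosedMap (proj f u) := by
  intro C hC
  haveI := isFibGrpd_of_isAlgStack h𝒳
  haveI := isFibGrpd_of_isAlgStack h𝒴
  haveI := AlgStLib.isFibGrpd_overCat T
  haveI : IsFibGrpd (fp f u).p := isFibGrpd_fp
  haveI := full_id 𝒴
  haveI := faithful_id 𝒴
  let N : fp f u' ⥤ᵇ fp f u :=
    fpMap (a := BasedFunctor.id _) (b := BasedFunctor.id _) (c := BasedFunctor.id _)
      (F := f) (G := u) (F' := f) (G' := u') (Iso.refl _) α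
  have hN : IsEquivOver N := isEquivOver_fpMap _ _ (isEquivOver_id _) (isEquivOver_id _)
  have hp : ∀ d, proj f u (AlgSt.Points.map N d) = proj f u' d := fun d => by
    refine (pt_bijective T).1 ?_
    rw [pt_proj, pt_proj, ← map_comp]
    rfl
  have e : proj f u '' C = proj f u' '' (AlgSt.Points.map N ⁻¹' C) := by
    ext t
    constructor
    · rintro ⟨c, hc, rfl⟩
      obtain ⟨d, rfl⟩ := (map_bijective_of_isEquivOver hN).2 c
      exact ⟨d, hc, (hp d).symm⟩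
    · rintro ⟨d, hd, rfl⟩
      exact ⟨_, hd, hp d⟩
  rw [e]
  exact h _ (hC.preimage (continuous_map (isAE_fp h𝒳 (isAE_overCat T) h𝒴 f u).atlas N))

theorem isUnivClosed_of_proj (h𝒳 : IsAE 𝒳) (h𝒴 : IsAE 𝒴) (f : 𝒳 ⥤ᵇ 𝒴)
    (h : ∀ (T : Over S) (u : overCat T ⥤ᵇ 𝒴), IsClosedMap (proj f u)) :
    AlgSt.IsUnivClosed Scheme.etalePrecoverage f := by
  intro 𝒵 h𝒵 g C hC
  haveI := isFibGrpd_of_isAlgStack h𝒳
  haveI := isFibGrpd_of_isAlgStack h𝒴
  haveI := isFibGrpd_of_isAlgStack h𝒵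
  haveI : IsFibGrpd (fp g f).p := isFibGrpd_fp
  have hA' := (isAE_fp h𝒵 h𝒳 h𝒴 g f).atlas
  have hA := (isAE_fp h𝒳 h𝒵 h𝒴 f g).atlas
  have hsw := isEquivOver_fpSwap f g
  let C' := AlgSt.Points.map (fpSwap f g) ⁻¹' C
  have hC' : IsClosed C' := hC.preimage (continuous_map hA' _)
  have e : AlgSt.Points.map (FibCat.fpFst g f) '' C = AlgSt.Points.map (FibCat.fpSnd f g) '' C' := by
    conv_lhs => rw [← Set.image_preimage_eq C (map_bijective_of_isEquivOver hsw).2]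
    rw [Set.image_image]
    refine Set.image_congr fun c _ => ?_
    rw [← map_comp]
    rfl
  rw [e, ← isOpen_compl_iff]
  intro T z hz
  rw [Set.preimage_compl, isOpen_compl_iff]
  haveI := AlgStLib.isFibGrpd_overCat T
  obtain ⟨D, hD, eD⟩ := exists_closed_preimage f z g hA hC'
  rw [show AlgSt.Points.ofChart z = AlgSt.Points.map z ∘ pt T from funext (ofChart_eq_map z), Set.preimage_comp,
    eD, preimage_pt_image]
  exact h T _ D hD

theorem isOpenMap_left_of_smooth {T T' : Over S} (j : T' ⟶ T)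
    (hj : AlgSt.RepByAlgSpWith (LocP @Smooth) (AlgSt.overMap j)) : IsOpenMap j.left := by
  haveI := AlgStLib.isFibGrpd_overCat T
  intro O hO
  have h := (isOpenMap_ofChart_smooth (AlgSt.overMap j) hj O hO).preimage
    (continuous_ofChart (isAE_overCat T).atlas (BasedFunctor.id (overCat T : AlgSt.Cat S)))
  convert h using 1
  rw [show AlgSt.Points.ofChart (AlgSt.overMap j) = pt T ∘ j.left from funext (ofChart_overMap_pt j),
    Set.image_comp]
  exact (Set.preimage_image_eq _ (pt_bijective T).1).symm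

theorem isClosedMap_proj_of_affine (h𝒳 : IsAE 𝒳) (h𝒴 : IsAE 𝒴) (f : 𝒳 ⥤ᵇ 𝒴)
    (h : ∀ (V : Over S) (v : overCat V ⥤ᵇ 𝒴), IsAffine V.left → AlgSt.RepByAlgSpWith (LocP @Smooth) v →
      ∀ (T : Over S) (k : T ⟶ V), IsAffine T.left → IsClosedMap (proj f (BasedFunctor.comp (AlgSt.overMap k) v)))
    (T : Over S) (u : overCat T ⥤ᵇ 𝒴) : IsClosedMap (proj f u) := by
  intro C hC
  haveI := isFibGrpd_of_isAlgStack h𝒳
  haveI := isFibGrpd_of_isAlgStack h𝒴
  haveI := AlgStLib.isFibGrpd_overCat T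
  obtain ⟨V₀, y, hy, hys⟩ := h𝒴.atlas
  obtain ⟨U, a, x, hx, hxs, ⟨α⟩⟩ := exists_chart_over (isAE_overCat T) h𝒴 u V₀ y hy hys
  haveI := AlgStLib.isFibGrpd_overCat U
  obtain ⟨j, ⟨ε⟩⟩ := exists_iso_overMap x
  have hsurj : Function.Surjective j.left := fun t => by
    obtain ⟨s, hs⟩ := surjective_ofChart hxs (pt T t)
    refine ⟨s, (pt_bijective T).1 ?_⟩
    rw [← hs, ← ofChart_overMap_pt]
    exact (congrFun (ofChart_congr ε) s).symm
  have hq := (isOpenMap_left_of_smooth j (repByAlgSpWith_congr ε hx)).isQuotientMap j.left.continuous hsurj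
  rw [← hq.isClosed_preimage, ← isOpen_compl_iff, isOpen_iff_forall_mem_open]
  intro w hw
  obtain ⟨W, hW, hwW, -⟩ := exists_isAffineOpen_mem_and_subset (U := ⊤) (x := a.left w) trivial
  obtain ⟨O, hO, hwO, hOW⟩ := exists_isAffineOpen_mem_and_subset (U := a.left ⁻¹ᵁ W) (x := w) hwW
  let Vw : Over S := Over.mk (W.ι ≫ V₀.hom)
  let ιV : Vw ⟶ V₀ := Over.homMk W.ι rfl
  let To : Over S := Over.mk (O.ι ≫ U.hom)
  let o : To ⟶ U := Over.homMk O.ι rfl
  let k : To ⟶ Vw := Over.homMk (a.left.resLE W O hOW) (by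
    change _ ≫ W.ι ≫ V₀.hom = O.ι ≫ U.hom
    rw [Scheme.Hom.resLE_comp_ι_assoc, Over.w a])
  have hk : k ≫ ιV = o ≫ a := Over.OverMorphism.ext (Scheme.Hom.resLE_comp_ι _ _)
  have hι : AlgSt.RepByAlgSpWith (LocP @Smooth) (BasedFunctor.comp (AlgSt.overMap ιV) y) :=
    haveI := AlgStLib.isFibGrpd_overCat V₀
    haveI := AlgStLib.isFibGrpd_overCat Vw
    repByAlgSpWith_comp' good_smooth (repByAlgSpWith_overMap good_smooth.bc ιV
      ((locP_yon_map_iff ιV).2 (inferInstanceAs (Smooth W.ι)))) hy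
  obtain ⟨D, hD, eD⟩ := exists_closed_preimage_proj h𝒳 h𝒴 f (o ≫ j) u hC
  let α₀ : BasedFunctor.comp (AlgSt.overMap (o ≫ j)) u ≅
      BasedFunctor.comp (AlgSt.overMap k) (BasedFunctor.comp (AlgSt.overMap ιV) y) :=
    eqToIso (congrArg (BasedFunctor.comp · u) (overMap_comp o j)) ≪≫
      whiskerLeftIso' (AlgSt.overMap o) (whiskerRightIso' ε.symm u ≪≫ α) ≪≫
      eqToIso (by
        change BasedFunctor.comp (BasedFunctor.comp (AlgSt.overMap o) (AlgSt.overMap a)) y =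
          BasedFunctor.comp (BasedFunctor.comp (AlgSt.overMap k) (AlgSt.overMap ιV)) y
        rw [← overMap_comp, ← overMap_comp, hk])
  have hcl : IsClosed ((o ≫ j).left ⁻¹' (proj f u '' C)) :=
    eD ▸ isClosedMap_proj_congr h𝒳 h𝒴 f α₀ (h Vw _ hW hι To k hO) D hD
  refine ⟨o.left '' ((o ≫ j).left ⁻¹' (proj f u '' C))ᶜ, ?_, O.ι.isOpenEmbedding.isOpenMap _ hcl.isOpen_compl,
    ⟨⟨w, hwO⟩, hw, rfl⟩⟩
  rintro _ ⟨s, hs, rfl⟩
  exact hs

end UCValLib
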